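import Cfsg.Prelude.Def_Transfer
import Cfsg.Agent.Lib.Spor.ThreeRelations
import Cfsg.Agent.Lib.Solv.Component
import Cfsg.Agent.Lib.Spor.UniqueClassInv
import Cfsg.Agent.Lib.Spor.UniqueClassSection

/-!
When `O₂` is elementary abelian and self-centralising there is only one generating class of
3-transpositions.
-/

set_option autoImplicit false
set_option linter.unusedSimpArgs false
set_option linter.unusedSectionVars false
set_option linter.style.haveILetI false

namespace Cfsg.Agent.Spor.UniqueClass

variable {G : Type*} [Group G] [Finite G]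

/-- the standing hypotheses on `O₂(G)` -/
structure Setting (G : Type*) [Group G] : Prop where
  elem : Cfsg.IsElementaryAbelian 2 (Cfsg.pCore 2 G)
  selfc : ∀ g : G, (∀ v ∈ Cfsg.pCore 2 G, g * v = v * g) → g ∈ Cfsg.pCore 2 G
  centre : Subgroup.center G = ⊥

variable (S : Setting G)

/-- `O₂(G)`, written additively -/
def Rad (G : Type*) [Group G] := Additive ↥(Cfsg.pCore 2 G)

/-- the multiplicative reading -/
def Rad.toV (x : Rad G) : ↥(Cfsg.pCore 2 G) := Additive.toMul (α := ↥(Cfsg.pCore 2 G)) x

/-- the additive reading -/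
def Rad.ofV (x : ↥(Cfsg.pCore 2 G)) : Rad G := Additive.ofMul x

/-- an element of `O₂(G)` from the additive copy -/
abbrev val (x : Rad G) : G := (Rad.toV x : G)

@[reducible] def radAddCommGroup : AddCommGroup (Rad G) :=
  show AddCommGroup (Additive ↥(Cfsg.pCore 2 G)) from
  @Additive.addCommGroup _ { (inferInstance : Group ↥(Cfsg.pCore 2 G)) with
    mul_comm := fun x y => (S.elem.1).1.1 x y }

section
include S

theorem mul_comm_rad {x y : G} (hx : x ∈ Cfsg.pCore 2 G) (hy : y ∈ Cfsg.pCore 2 G) :
    x * y = y * x := by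
  have := (S.elem.1).1.1 (⟨x, hx⟩ : ↥(Cfsg.pCore 2 G)) ⟨y, hy⟩
  exact congrArg Subtype.val this

theorem sq_rad {x : G} (hx : x ∈ Cfsg.pCore 2 G) : x * x = 1 := by
  rw [← pow_two]; exact S.elem.2 x hx

theorem inv_rad {x : G} (hx : x ∈ Cfsg.pCore 2 G) : x⁻¹ = x :=
  inv_eq_of_mul_eq_one_left (sq_rad S hx)

theorem twoGroup_rad : @TwoGroup (Rad G) (radAddCommGroup S) := by
  letI := radAddCommGroup S
  exact ⟨fun x => (Subtype.ext (sq_rad S (Rad.toV x).2) : Rad.toV (x + x) = Rad.toV 0)⟩

end

section

variable [AddCommGroup (Rad G)]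
variable (hval : ∀ x y : Rad G, val (x + y) = val x * val y)
include hval

theorem val_zero' : val (0 : Rad G) = 1 := by
  have h := hval 0 0
  rw [add_zero] at h
  exact mul_eq_left.1 h.symm

/-- the conjugation by `g` -/
def conjEnd (g : G) : AddMonoid.End (Rad G) :=
  AddMonoidHom.mk' (fun x => Rad.ofV
      (⟨g * val x * g⁻¹, (Solv.pCore_normal (G := G) 2).conj_mem _ (Rad.toV x).2 g⟩ :
        ↥(Cfsg.pCore 2 G)))
    fun x y => (Subtype.ext (by
      show g * val (x + y) * g⁻¹ = val (_ + _)
      rw [hval, hval]
      show g * (val x * val y) * g⁻¹ = (g * val x * g⁻¹) * (g * val y * g⁻¹)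
      group))

omit hval in
theorem ext_val {x y : Rad G} (h : val x = val y) : x = y :=
  (Subtype.ext h : Rad.toV x = Rad.toV y)

/-- the representation -/
def rep : G →* AddMonoid.End (Rad G) where
  toFun := conjEnd hval
  map_one' := AddMonoidHom.ext fun x => ext_val (show 1 * val x * 1⁻¹ = val x by group)
  map_mul' g h := AddMonoidHom.ext fun x => ext_val
    (show g * h * val x * (g * h)⁻¹ = g * (h * val x * h⁻¹) * g⁻¹ by group)

theorem val_rep (g : G) (x : Rad G) : val (rep hval g x) = g * val x * g⁻¹ := rfl

/-- what `g` moves -/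
def del (g : G) : AddMonoid.End (Rad G) := rep hval g + 1

variable [TwoGroup (Rad G)]

theorem rep_eq (g : G) : rep hval g = 1 + del hval g := by
  rw [del, add_comm (rep hval g) 1, two_cancel]

include S

theorem rep_one_iff (g : G) : rep hval g = 1 ↔ g ∈ Cfsg.pCore 2 G := by
  constructor
  · intro h
    refine S.selfc g fun v hv => ?_
    have := congrArg val (congrArg (fun f : AddMonoid.End (Rad G) => f (Rad.ofV ⟨v, hv⟩)) h)
    rw [val_rep] at this
    change g * v * g⁻¹ = v at this
    exact mul_inv_eq_iff_eq_mul.1 this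
  · intro hg
    refine AddMonoidHom.ext fun x => ext_val ?_
    show g * val x * g⁻¹ = val x
    rw [mul_comm_rad S hg (Rad.toV x).2, mul_inv_cancel_right]

theorem del_eq_iff (g h : G) : del hval g = del hval h ↔ g⁻¹ * h ∈ Cfsg.pCore 2 G := by
  rw [← rep_one_iff S hval, map_mul, del, del, add_left_inj]
  constructor
  · intro e
    rw [← e, ← map_mul, inv_mul_cancel, map_one]
  · intro e
    calc rep hval g = rep hval g * (rep hval g⁻¹ * rep hval h) := by rw [e, mul_one]
      _ = rep hval h := by rw [← mul_assoc, ← map_mul, mul_inv_cancel, map_one, one_mul]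

variable {D : Set G} (hD : Cfsg.IsThreeTranspositionClass D)
include hD

theorem inv_tr {d : G} (hd : d ∈ D) : d⁻¹ = d := inv_of_order_two (hD.1.1 d hd)

theorem sq_tr {d : G} (hd : d ∈ D) : d * d = 1 := mul_self_of_order_two (hD.1.1 d hd)

theorem conj_tr {d : G} (hd : d ∈ D) (g : G) : g * d * g⁻¹ ∈ D := (class_isGroup hD).2.1 g d hd

theorem del_sq {d : G} (hd : d ∈ D) : del hval d * del hval d = 0 := by
  have h : rep hval d * rep hval d = 1 := by rw [← map_mul, sq_tr S hval hD hd, map_one]
  rw [del]
  simp only [mul_add, add_mul, one_mul, mul_one, h, add_assoc, add_comm, add_left_comm, two_self,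
    two_cancel, add_zero, zero_add]

theorem del_ne {d : G} (hd : d ∈ D) : del hval d ≠ 0 := by
  intro h
  have hdV : d ∈ Cfsg.pCore 2 G := (rep_one_iff S hval d).1 (two_add_eq.2 h)
  haveI := Solv.pCore_normal (G := G) 2
  obtain ⟨d₀, hd₀, hDeq⟩ := hD.2.1
  have hall : ∀ x : G, x ∈ Cfsg.pCore 2 G := by
    have hDV : D ⊆ (Cfsg.pCore 2 G : Set G) := fun x hx => by
      rw [hDeq] at hd hx
      obtain ⟨g, rfl⟩ := isConj_iff.1 ((IsConj.symm hd).trans hx)
      exact (Solv.pCore_normal (G := G) 2).conj_mem d hdV g
    intro x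
    have : Subgroup.closure D ≤ Cfsg.pCore 2 G := (Subgroup.closure_le _).2 hDV
    exact this (hD.2.2 ▸ Subgroup.mem_top x)
  have : d ∈ Subgroup.center G :=
    Subgroup.mem_center_iff.2 fun x => mul_comm_rad S (hall x) hdV
  rw [S.centre, Subgroup.mem_bot] at this
  have h2 := hD.1.1 d hd
  rw [this, orderOf_one] at h2
  exact absurd h2 (by norm_num)

theorem del_conj {d f : G} (hd : d ∈ D) :
    del hval (d * f * d⁻¹) = mv (del hval d) (del hval f) := by
  have h : rep hval d * rep hval d = 1 := by rw [← map_mul, sq_tr S hval hD hd, map_one]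
  rw [inv_tr S hval hD hd, mv, ← rep_eq hval d]
  show rep hval (d * f * d) + 1 = rep hval d * (rep hval f + 1) * rep hval d
  rw [map_mul, map_mul, mul_add (rep hval d), mul_one, add_mul, h]

theorem translate {d : G} (hd : d ∈ D) (x : Rad G) :
    val x * d * (val x)⁻¹ = val (del hval d x) * d := by
  have e : val (del hval d x) = d * val x * d⁻¹ * val x := by
    show val (rep hval d x + x) = _
    rw [hval, val_rep]
  rw [e, inv_rad S (Rad.toV x).2, mul_comm_rad S
    ((Solv.pCore_normal (G := G) 2).conj_mem _ (Rad.toV x).2 d) (Rad.toV x).2,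
    inv_tr S hval hD hd]
  have hxs : val x * val x = 1 := sq_rad S (Rad.toV x).2
  have hds := sq_tr S hval hD hd
  calc val x * d * val x = val x * d * val x * (d * d) := by rw [hds, mul_one]
    _ = _ := by simp only [mul_assoc]

theorem image_commute {d f : G} (hd : d ∈ D) (hf : f ∈ D)
    (h : Commute (rep hval d) (rep hval f)) : Commute d f := by
  rcases hD.1.2 d hd f hf with h2 | h3
  · rw [pow_two, mul_eq_one_iff_eq_inv, mul_inv_rev, inv_tr S hval hD hd, inv_tr S hval hD hf] at h2
    exact h2
  · refine commute_of_mul_mem_two hD.1 hd hf ((rep_one_iff S hval _).1 ?_)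
    have h22 : rep hval (d * f) ^ 2 = 1 := by
      rw [map_mul, h.mul_pow, pow_two, pow_two, ← map_mul, ← map_mul, sq_tr S hval hD hd,
        sq_tr S hval hD hf, map_one, one_mul]
    have h33 : rep hval (d * f) ^ 3 = 1 := by rw [← map_pow, h3, map_one]
    rwa [pow_succ, h22, one_mul] at h33

theorem orth_of_commute {d f : G} (hd : d ∈ D) (hf : f ∈ D) (hc : Commute d f) :
    Orth (del hval d) (del hval f) := by
  have half : ∀ {d f : G}, d ∈ D → f ∈ D → Commute d f → del hval f * del hval d = 0 := by
    intro d f hd hf hc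
    refine AddMonoidHom.ext fun x => ?_
    show del hval f (del hval d x) = 0
    set u := del hval d x with hu
    have hd' : val x * d * (val x)⁻¹ ∈ D := conj_tr S hval hD hd _
    have h1 : Commute (val x * d * (val x)⁻¹) f := by
      refine image_commute S hval hD hd' hf ?_
      have : rep hval (val x * d * (val x)⁻¹) = rep hval d := by
        rw [map_mul, map_mul, (rep_one_iff S hval _).2 (Rad.toV x).2,
          (rep_one_iff S hval _).2 (inv_mem (Rad.toV x).2), one_mul, mul_one]
      rw [this]
      exact hc.map _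
    rw [translate S hval hD hd, ← hu] at h1
    have h2 : Commute (val u) f := by
      have := h1.mul_left hc
      rwa [mul_assoc, sq_tr S hval hD hd, mul_one] at this
    refine ext_val ?_
    show val (rep hval f u + u) = val 0
    rw [hval, val_zero' hval, val_rep, ← h2.eq, mul_inv_cancel_right]
    exact sq_rad S (Rad.toV u).2
  exact ⟨half hf hd hc.symm, half hd hf hc⟩

omit S hD hval in
theorem cube_prod (u x : G) :
    (u * x) ^ 3 = u * (x * u * x⁻¹) * (x * (x * u * x⁻¹) * x⁻¹) * x ^ 3 := by
  simp only [pow_succ, pow_zero, one_mul]; group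

omit S hD in
theorem orbit_sum {u : Rad G} {x : G} (h3 : x ^ 3 = 1) (h : (val u * x) ^ 3 = 1) :
    u + rep hval x u + rep hval x (rep hval x u) = 0 := by
  refine ext_val ?_
  rw [hval, hval, val_zero' hval, val_rep, val_rep, val_rep]
  rw [cube_prod, h3, mul_one] at h
  exact h

omit S hD hval in
theorem adj_of_sum {R : Type*} [Ring R] [TwoZero R] {a b : R} (ha : a * a = 0) (hb : b * b = 0)
    (h : a + (1 + a) * (1 + b) * a + (1 + a) * (1 + b) * ((1 + a) * (1 + b) * a) = 0) :
    a * b * a = a := by
  have ha' : ∀ z : R, a * (a * z) = 0 := fun z => by rw [← mul_assoc, ha, zero_mul]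
  have hb' : ∀ z : R, b * (b * z) = 0 := fun z => by rw [← mul_assoc, hb, zero_mul]
  simp only [mul_add, add_mul, mul_one, one_mul, mul_assoc, ha, hb, ha', hb', mul_zero, zero_mul,
    add_assoc, add_comm, add_left_comm, two_self, two_cancel, add_zero, zero_add] at h
  have h1 := congrArg (fun z => a * z) h
  simp only [mul_add, mul_zero, ha, ha', add_zero, zero_add] at h1
  rw [← two_add_eq] at h1
  have k1 := congrArg (fun z => (1 + b) * z) h
  simp only [mul_add, add_mul, mul_one, one_mul, mul_zero, mul_assoc, ← h1, ha, hb, ha', hb',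
    add_assoc, add_comm, add_left_comm, two_self, two_cancel, add_zero, zero_add] at k1
  rw [mul_assoc, two_add_eq]
  first | exact k1 | (rw [add_comm]; exact k1)

theorem adj_of_not_commute {d f : G} (hd : d ∈ D) (hf : f ∈ D) (hc : ¬ Commute d f) :
    Adj (del hval d) (del hval f) := by
  set a := del hval d with ha
  set b := del hval f with hb
  refine adj_of_sum (del_sq S hval hD hd) (del_sq S hval hD hf) ?_
  refine AddMonoidHom.ext fun x => ?_
  have h3 : (d * f) ^ 3 = 1 := (hD.1.2 d hd f hf).resolve_left fun h2 => hc (by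
    rw [pow_two, mul_eq_one_iff_eq_inv, mul_inv_rev, inv_tr S hval hD hd, inv_tr S hval hD hf] at h2
    exact h2)
  have hd' : val x * d * (val x)⁻¹ ∈ D := conj_tr S hval hD hd _
  have h3' : (val x * d * (val x)⁻¹ * f) ^ 3 = 1 := (hD.1.2 _ hd' f hf).resolve_left fun h2 => hc (by
    refine image_commute S hval hD hd hf ?_
    rw [pow_two, mul_eq_one_iff_eq_inv, mul_inv_rev, inv_tr S hval hD hd', inv_tr S hval hD hf] at h2
    have h2' : Commute (rep hval (val x * d * (val x)⁻¹)) (rep hval f) := Commute.map h2 _
    rwa [map_mul, map_mul, (rep_one_iff S hval _).2 (Rad.toV x).2,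
      (rep_one_iff S hval _).2 (inv_mem (Rad.toV x).2), one_mul, mul_one] at h2')
  rw [translate S hval hD hd, mul_assoc] at h3'
  have := orbit_sum hval h3 h3'
  rw [map_mul, rep_eq hval d, rep_eq hval f, ← ha, ← hb] at this
  exact this

theorem commute_iff_orth {d f : G} (hd : d ∈ D) (hf : f ∈ D) :
    Commute d f ↔ Orth (del hval d) (del hval f) := by
  refine ⟨orth_of_commute S hval hD hd hf, fun ho => ?_⟩
  by_contra hc
  have h : del hval d * del hval f * del hval d = del hval d := adj_of_not_commute S hval hD hd hf hc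
  exact del_ne S hval hD hd (by rw [← h, ho.1, zero_mul])

theorem sys : Sys (del hval '' D) where
  sq := by rintro _ ⟨d, hd, rfl⟩; exact del_sq S hval hD hd
  nz := by rintro _ ⟨d, hd, rfl⟩; exact del_ne S hval hD hd
  dich := by
    rintro _ ⟨d, hd, rfl⟩ _ ⟨f, hf, rfl⟩
    by_cases hc : Commute d f
    · exact Or.inl (orth_of_commute S hval hD hd hf hc)
    · exact Or.inr (adj_of_not_commute S hval hD hd hf hc)
  conj := by
    rintro _ ⟨d, hd, rfl⟩ _ ⟨f, hf, rfl⟩
    exact ⟨d * f * d⁻¹, conj_tr S hval hD hf d, del_conj S hval hD hd⟩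
  sep := by
    rintro _ ⟨d, hd, rfl⟩ _ ⟨f, hf, rfl⟩ h
    have hsub : {x ∈ D | Commute d x} ⊆ {x ∈ D | Commute f x} := fun x hx =>
      ⟨hx.1, (commute_iff_orth S hval hD hf hx.1).2
        (h _ ⟨x, hx.1, rfl⟩ ((commute_iff_orth S hval hD hd hx.1).1 hx.2))⟩
    obtain ⟨d₀, hd₀, hDeq⟩ := hD.2.1
    obtain ⟨g, hg⟩ : ∃ g, g * d * g⁻¹ = f := by
      have h1 := hd; have h2 := hf
      rw [hDeq] at h1 h2
      exact isConj_iff.1 ((IsConj.symm h1).trans h2)
    have hcard : ({x ∈ D | Commute f x}).ncard ≤ ({x ∈ D | Commute d x}).ncard := by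
      refine Set.ncard_le_ncard_of_injOn (fun x => g⁻¹ * x * g) ?_ ?_ (Set.toFinite _)
      · rintro x ⟨hx, hfx⟩
        refine ⟨by simpa using conj_tr S hval hD hx g⁻¹, ?_⟩
        have e : d = g⁻¹ * f * g⁻¹⁻¹ := by rw [← hg]; group
        have : g⁻¹ * x * g = g⁻¹ * x * g⁻¹⁻¹ := by rw [inv_inv]
        rw [e]
        show Commute _ (g⁻¹ * x * g)
        rw [this]
        exact commute_conj_iff.2 hfx
      · intro x _ y _ e
        exact mul_left_cancel (mul_right_cancel e)
    have heq := Set.eq_of_subset_of_ncard_le hsub hcard (Set.toFinite _)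
    have hV : SameV D d f := fun x hx =>
      ⟨fun c => (hsub ⟨hx, c⟩).2, fun c => by
        have : x ∈ {x ∈ D | Commute d x} := heq ▸ ⟨hx, c⟩
        exact this.2⟩
    rw [del_eq_iff S hval, inv_tr S hval hD hd]
    exact hV.mul_mem_core (class_isGroup hD) hd hf

theorem rep_mem_closure (g : G) : rep hval g ∈ Subring.closure (del hval '' D) := by
  have hg : g ∈ Subgroup.closure D := hD.2.2 ▸ Subgroup.mem_top g
  suffices rep hval g ∈ Subring.closure (del hval '' D) ∧
    rep hval g⁻¹ ∈ Subring.closure (del hval '' D) from this.1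
  induction hg using Subgroup.closure_induction with
  | mem x hx =>
    have : rep hval x ∈ Subring.closure (del hval '' D) := by
      rw [rep_eq hval x]
      exact add_mem (one_mem _) (Subring.subset_closure ⟨x, hx, rfl⟩)
    exact ⟨this, by rwa [inv_tr S hval hD hx]⟩
  | one => rw [inv_one, map_one]; exact ⟨one_mem _, one_mem _⟩
  | mul x y _ _ hx hy =>
    rw [mul_inv_rev, map_mul, map_mul]
    exact ⟨mul_mem hx.1 hy.1, mul_mem hy.2 hx.2⟩
  | inv x _ hx => rw [inv_inv]; exact ⟨hx.2, hx.1⟩

theorem not_small (U : AddSubgroup (Rad G))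
    (hU : ∀ φ ∈ Subring.closure (del hval '' D), ∀ x ∈ U, φ x ∈ U) (g : G)
    (h1 : ∀ x, del hval g x ∈ U) (h2 : ∀ x ∈ U, del hval g x = 0) : g ∈ Cfsg.pCore 2 G := by
  have dmul : ∀ p q : G, del hval (p * q) = del hval p + del hval q + del hval p * del hval q :=
    fun p q => by
      rw [del, map_mul, rep_eq hval p, rep_eq hval q]
      simp only [mul_add, add_mul, mul_one, one_mul, add_assoc, add_comm, add_left_comm, two_self,
        two_cancel, add_zero, zero_add]
  let H : Subgroup G :=
    { carrier := {p | (∀ x, del hval p x ∈ U) ∧ ∀ x ∈ U, del hval p x = 0}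
      one_mem' := by
        have e : del hval (1 : G) = 0 := by rw [del, map_one, two_self]
        exact ⟨fun x => by rw [e]; exact zero_mem U, fun x _ => by rw [e]; rfl⟩
      mul_mem' := by
        rintro p q ⟨p1, p2⟩ ⟨q1, q2⟩
        refine ⟨fun x => ?_, fun x hx => ?_⟩ <;> rw [dmul]
        · exact add_mem (add_mem (p1 x) (q1 x)) (p1 _)
        · show del hval p x + del hval q x + del hval p (del hval q x) = 0
          rw [p2 x hx, q2 x hx, map_zero, add_zero, add_zero]
      inv_mem' := by
        rintro p ⟨p1, p2⟩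
        have hp : del hval p * del hval p = 0 :=
          AddMonoidHom.ext fun x => p2 _ (p1 x)
        have e : rep hval p⁻¹ = rep hval p := by
          have h : rep hval p * rep hval p = 1 := by
            rw [rep_eq hval p, mul_add, add_mul, add_mul, one_mul, one_mul, mul_one, hp, add_zero,
              add_assoc, two_self, add_zero]
          calc rep hval p⁻¹ = rep hval p⁻¹ * (rep hval p * rep hval p) := by rw [h, mul_one]
            _ = rep hval p := by rw [← mul_assoc, ← map_mul, inv_mul_cancel, map_one, one_mul]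
        have e' : del hval p⁻¹ = del hval p := by rw [del, del, e]
        exact ⟨fun x => by rw [e']; exact p1 x, fun x hx => by rw [e']; exact p2 x hx⟩ }
  have hn : H.Normal := ⟨fun p hp q => by
    obtain ⟨p1, p2⟩ := hp
    have e : del hval (q * p * q⁻¹) = rep hval q * del hval p * rep hval q⁻¹ := by
      have h1 : rep hval q * rep hval q⁻¹ = 1 := by rw [← map_mul, mul_inv_cancel, map_one]
      rw [del, map_mul, map_mul, del, mul_add (rep hval q), mul_one, add_mul, h1]
    refine ⟨fun x => ?_, fun x hx => ?_⟩ <;> rw [e]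
    · exact hU _ (rep_mem_closure S hval hD q) _ (p1 _)
    · show rep hval q (del hval p (rep hval q⁻¹ x)) = 0
      rw [p2 _ (hU _ (rep_mem_closure S hval hD q⁻¹) x hx), map_zero]⟩
  have hp : IsPGroup 2 H := by
    intro p
    refine ⟨2, Subtype.ext ?_⟩
    obtain ⟨p1, p2⟩ := p.2
    have hsq : ((p : G) * p) ∈ Cfsg.pCore 2 G := by
      rw [← rep_one_iff S hval, map_mul, rep_eq hval (p : G), mul_add, add_mul, add_mul, one_mul,
        one_mul, mul_one, show del hval (p : G) * del hval (p : G) = 0 from
          AddMonoidHom.ext fun x => p2 _ (p1 x), add_zero, add_assoc, two_self, add_zero]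
    show (p : G) ^ 2 ^ 2 = 1
    rw [show (2 : ℕ) ^ 2 = 2 * 2 from rfl, pow_mul, pow_two (p : G)]
    exact S.elem.2 _ hsq
  exact (show H ≤ Cfsg.pCore 2 G from le_sSup ⟨hn, hp⟩) ⟨h1, h2⟩

variable {E : Set G} (hE : Cfsg.IsThreeTranspositionClass E)
include hE

theorem image_mem {e : G} (he : e ∈ E) : ∃ g ∈ D, del hval e = del hval g := by
  have hT := sys S hval hD
  set c := del hval e with hcdef
  have hcc : c * c = 0 := del_sq S hval hE he
  obtain ⟨d, hd, hnc⟩ : ∃ d ∈ D, ¬ Commute (rep hval d) (rep hval e) := by
    by_contra hno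
    simp only [not_exists, not_and, not_not] at hno
    have hall : ∀ g : G, Commute (rep hval g) (rep hval e) := by
      intro g
      have hg : g ∈ Subgroup.closure D := hD.2.2 ▸ Subgroup.mem_top g
      induction hg using Subgroup.closure_induction with
      | mem x hx => exact hno x hx
      | one => rw [map_one]; exact Commute.one_left _
      | mul x y _ _ hx hy => rw [map_mul]; exact hx.mul_left hy
      | inv x _ hx =>
        show rep hval x⁻¹ * rep hval e = rep hval e * rep hval x⁻¹
        calc rep hval x⁻¹ * rep hval e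
            = rep hval x⁻¹ * rep hval e * (rep hval x * rep hval x⁻¹) := by
              rw [← map_mul, ← map_mul, mul_inv_cancel, map_one, mul_one]
          _ = rep hval x⁻¹ * (rep hval e * rep hval x) * rep hval x⁻¹ := by simp only [mul_assoc]
          _ = (rep hval x⁻¹ * rep hval x) * rep hval e * rep hval x⁻¹ := by
              rw [← hx.eq]; simp only [mul_assoc]
          _ = _ := by rw [← map_mul, inv_mul_cancel, map_one, one_mul]
    obtain ⟨d, hd, -⟩ := hD.2.1
    have hE' : ∀ x : G, rep hval x = 1 ∨ rep hval x = rep hval e := by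
      intro x
      have hx : x ∈ Subgroup.closure E := hE.2.2 ▸ Subgroup.mem_top x
      have he2 : rep hval e * rep hval e = 1 := by rw [← map_mul, sq_tr S hval hE he, map_one]
      induction hx using Subgroup.closure_induction with
      | mem y hy =>
        right
        obtain ⟨e₀, -, hEeq⟩ := hE.2.1
        obtain ⟨q, rfl⟩ : ∃ q, q * e * q⁻¹ = y := by
          have h1 := he; have h2 := hy
          rw [hEeq] at h1 h2
          exact isConj_iff.1 ((IsConj.symm h1).trans h2)
        rw [map_mul, map_mul, (hall q).eq, mul_assoc, ← map_mul, mul_inv_cancel, map_one, mul_one]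
      | one => exact Or.inl (map_one _)
      | mul y z _ _ hy hz =>
        rw [map_mul]
        rcases hy with r | r <;> rcases hz with r' | r' <;> simp [r, r', he2]
      | inv y _ hy =>
        have h : rep hval y⁻¹ * rep hval y = 1 := by rw [← map_mul, inv_mul_cancel, map_one]
        rcases hy with r | r <;> rw [r] at h
        · rw [mul_one] at h; exact Or.inl h
        · right
          calc rep hval y⁻¹ = rep hval y⁻¹ * (rep hval e * rep hval e) := by rw [he2, mul_one]
            _ = rep hval e := by rw [← mul_assoc, h, one_mul]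
    have h2grp : IsPGroup 2 (⊤ : Subgroup G) := by
      intro p
      refine ⟨2, Subtype.ext ?_⟩
      have hsq : ((p : G) * p) ∈ Cfsg.pCore 2 G := by
        rw [← rep_one_iff S hval, map_mul]
        rcases hE' (p : G) with r | r <;> rw [r]
        · exact one_mul 1
        · rw [← map_mul, sq_tr S hval hE he, map_one]
      show (p : G) ^ 2 ^ 2 = 1
      rw [show (2 : ℕ) ^ 2 = 2 * 2 from rfl, pow_mul, pow_two (p : G)]
      exact S.elem.2 _ hsq
    have : d ∈ Cfsg.pCore 2 G :=
      (show (⊤ : Subgroup G) ≤ Cfsg.pCore 2 G from le_sSup ⟨inferInstance, h2grp⟩) (Subgroup.mem_top d)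
    exact del_ne S hval hD hd (by rw [del, (rep_one_iff S hval d).2 this, two_self])
  set a := del hval d with hadef
  have haT : a ∈ del hval '' D := ⟨d, hd, rfl⟩
  set f := e * d * e⁻¹ with hfdef
  have hf : f ∈ D := conj_tr S hval hD hd e
  have hb : del hval f = mv c a := del_conj S hval hE he
  have hc' : del hval (d * e * d⁻¹) = mv a c := del_conj S hval hD hd
  have he' : d * e * d⁻¹ ∈ E := conj_tr S hval hE he d
  have haa : a * a = 0 := hT.sq a haT
  have k1 : ∀ z, a * (a * z) = 0 := fun z => by rw [← mul_assoc, haa, zero_mul]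
  have k2 : ∀ z, c * (c * z) = 0 := fun z => by rw [← mul_assoc, hcc, zero_mul]
  have hnc' : ¬ Commute d f := by
    intro hdf
    apply hnc
    have oA := orth_of_commute S hval hD hd hf hdf
    have hef : Commute e (d * e * d⁻¹) := by
      have h := hdf.eq
      rw [hfdef, inv_tr S hval hE he] at h
      show e * _ = _ * e
      rw [inv_tr S hval hD hd]
      calc e * (d * e * d) = (e * d * e) * d := by simp only [mul_assoc]
        _ = d * (e * d * e) := h.symm
        _ = _ := by simp only [mul_assoc]
    have oC := orth_of_commute S hval hE he he' hef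
    rw [← hcdef, hc'] at oC
    rw [← hadef, hb] at oA
    have z1 : a * c * a = 0 := by
      have h0 : a * mv c a = 0 := oA.1
      have h1 : (a * c * a) * (1 + c) = 0 := by
        rw [← h0, mv]
        simp only [mul_add, add_mul, mul_one, one_mul, mul_assoc, haa, k1, add_assoc, add_comm,
          add_left_comm, zero_mul, mul_zero, add_zero, zero_add]
      have h2 := congrArg (fun z => z * (1 + c)) h1
      simpa only [mul_add, add_mul, mul_one, one_mul, mul_assoc, hcc, mul_zero, zero_mul, add_assoc,
        add_comm, add_left_comm, two_self, two_cancel, add_zero, zero_add] using h2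
    have z2 : c * a * c = 0 := by
      have h0 : c * mv a c = 0 := oC.1
      have h1 : (c * a * c) * (1 + a) = 0 := by
        rw [← h0, mv]
        simp only [mul_add, add_mul, mul_one, one_mul, mul_assoc, hcc, k2, add_assoc, add_comm,
          add_left_comm, zero_mul, mul_zero, add_zero, zero_add]
      have h2 := congrArg (fun z => z * (1 + a)) h1
      simpa only [mul_add, add_mul, mul_one, one_mul, mul_assoc, haa, mul_zero, zero_mul, add_assoc,
        add_comm, add_left_comm, two_self, two_cancel, add_zero, zero_add] using h2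
    have hbe : del hval f = a + c * a + a * c := by
      rw [hb, mv]
      simp only [mul_add, add_mul, mul_one, one_mul, z2, add_assoc, add_comm, add_left_comm,
        add_zero, zero_add]
    have hab : a = del hval f := by
      refine hT.sep a haT _ ⟨f, hf, rfl⟩ fun x hx hax => ?_
      refine (hT.dich _ ⟨f, hf, rfl⟩ x hx).resolve_right fun hadj => ?_
      have h2 : x * del hval f * x = x := hT.adj_symm ⟨f, hf, rfl⟩ hx hadj
      have h3 : x * del hval f * x = 0 := by
        rw [hbe, mul_add, mul_add, add_mul, add_mul, hax.2, zero_mul, zero_add,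
          mul_assoc x (c * a), mul_assoc c a, hax.1, mul_zero, mul_zero, zero_add, ← mul_assoc x a,
          hax.2, zero_mul, zero_mul]
      exact hT.nz x hx (h2.symm.trans h3)
    have hsum : c * a + a * c = 0 := by
      calc c * a + a * c = a + (a + c * a + a * c) := by rw [add_assoc a, two_cancel]
        _ = 0 := by rw [← hbe, ← hab, two_self]
    have hcomm : a * c = c * a := two_add_eq.2 ((add_comm _ _).trans hsum)
    show rep hval d * rep hval e = rep hval e * rep hval d
    rw [rep_eq hval d, rep_eq hval e, ← hadef, ← hcdef]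
    simp only [mul_add, add_mul, mul_one, one_mul, hcomm, add_assoc, add_comm, add_left_comm]
  have A1 : a * c * a * c * a = a := by
    have h : a * del hval f * a = a := adj_of_not_commute S hval hD hd hf hnc'
    rw [hb, mv] at h
    simpa only [mul_add, add_mul, mul_one, one_mul, mul_assoc, haa, k1, mul_zero, zero_mul,
      add_zero, zero_add] using h
  have C1 : c * a * c * a * c = c := by
    have hncE : ¬ Commute e (d * e * d⁻¹) := by
      intro h
      apply hnc'
      rw [inv_tr S hval hD hd] at h
      show d * f = f * d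
      rw [hfdef, inv_tr S hval hE he]
      calc d * (e * d * e) = (d * e * d) * e := by simp only [mul_assoc]
        _ = e * (d * e * d) := h.eq.symm
        _ = _ := by simp only [mul_assoc]
    have h : c * del hval (d * e * d⁻¹) * c = c := adj_of_not_commute S hval hE he he' hncE
    rw [hc', mv] at h
    simpa only [mul_add, add_mul, mul_one, one_mul, mul_assoc, hcc, k2, mul_zero, zero_mul,
      add_zero, zero_add] using h
  have hcS : c ∈ Subring.closure (del hval '' D) := by
    rw [hcdef, del]; exact add_mem (rep_mem_closure S hval hD e) (one_mem _)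
  obtain ⟨U, hU, hin, hout⟩ := exceptional hT haT hcS A1 C1
  set η := c + c * a * c with hη
  refine ⟨d * f * d⁻¹, conj_tr S hval hD hf d, ?_⟩
  have hg' : del hval (d * f * d⁻¹) = mv a (mv c a) := by rw [del_conj S hval hD hd, hb]
  have i1 : a * η * a = a * c * a + a := by
    rw [hη, mul_add a, add_mul]
    congr 1
  have eb : mv c a = a + a * c + c * a + c * a * c := by
    rw [mv]
    simp only [mul_add, add_mul, mul_one, one_mul, add_assoc, add_comm, add_left_comm]
  have eab : a * mv c a = a * c * a + a * c * a * c := by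
    rw [eb, mul_add, mul_add, mul_add, haa, k1, zero_add, zero_add]
    simp only [mul_assoc]
  have eba : mv c a * a = a * c * a + c * a * c * a := by
    rw [eb, add_mul, add_mul, add_mul, haa, mul_assoc c a a, haa, mul_zero, zero_add, add_zero]
  have eaba : a * mv c a * a = a := by
    rw [eab, add_mul, mul_assoc (a * c) a a, haa, mul_zero, zero_add, A1]
  have hgg : del hval (d * f * d⁻¹) = c * a * c + (c * (a * η * a) + a * η * a * c) := by
    rw [hg', adj_expand eaba, eab, eba, eb, i1, mul_add c, add_mul, ← mul_assoc c (a * c) a,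
      ← mul_assoc c a c]
    simp only [add_assoc, add_comm, add_left_comm, two_self, two_cancel, add_zero, zero_add]
  have eD : del hval (e * (d * f * d⁻¹)) =
      η + (1 + c) * (c * (a * η * a) + a * η * a * c) := by
    have : del hval (e * (d * f * d⁻¹)) = c + (1 + c) * del hval (d * f * d⁻¹) := by
      rw [del, map_mul, rep_eq hval e, rep_eq hval (d * f * d⁻¹), ← hcdef, mul_add, mul_one]
      simp only [add_assoc, add_comm, add_left_comm, two_self, two_cancel, add_zero, zero_add]
    have hc2 : (1 + c) * (c * a * c) = c * a * c := by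
      rw [add_mul, one_mul, ← mul_assoc, ← mul_assoc, hcc, zero_mul, zero_mul, add_zero]
    rw [this, hgg, hη, mul_add (1 + c), hc2, ← add_assoc]
  rw [del_eq_iff S hval, inv_tr S hval hE he]
  refine not_small S hval hD U hU _ ?_ ?_ <;> rw [eD]
  · intro x
    have i1 : ∀ y, a (η y) ∈ U := fun y => hU a (Subring.subset_closure haT) _ (hin y)
    exact add_mem (hin x) (hU (1 + c) (add_mem (one_mem _) hcS) _
      (add_mem (hU c hcS _ (i1 (a x))) (i1 (a (c x)))))
  · intro x hx
    have hx' : ∀ φ ∈ Subring.closure (del hval '' D), η (φ x) = 0 := fun φ hφ => hout _ (hU φ hφ x hx)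
    show η x + (1 + c) (c (a (η (a x))) + a (η (a (c x)))) = 0
    have e1 : η (a x) = 0 := hx' a (Subring.subset_closure haT)
    have e2 : η (a (c x)) = 0 := hx' (a * c) (mul_mem (Subring.subset_closure haT) hcS)
    rw [hout x hx, e1, e2, map_zero, map_zero, add_zero, map_zero, add_zero]

theorem subset_class : E ⊆ D := by
  intro e he
  have hT := sys S hval hD
  obtain ⟨g, hg, heq⟩ := image_mem S hval hD hE he
  have hgV : g * e ∈ Cfsg.pCore 2 G := by
    have := (del_eq_iff S hval g e).1 heq.symm
    rwa [inv_tr S hval hD hg] at this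
  let Lift : AddMonoid.End (Rad G) → Rad G → Prop := fun a x =>
    ∃ d ∈ D, del hval d = a ∧ val x * d ∈ E
  have img : ∀ {a : AddMonoid.End (Rad G)} {d : G} {x : Rad G}, del hval d = a →
      rep hval (val x * d) = 1 + a := fun {a d x} h => by
    rw [map_mul, (rep_one_iff S hval _).2 (Rad.toV x).2, one_mul, rep_eq hval d, h]
  have delE : ∀ {a : AddMonoid.End (Rad G)} {d : G} {x : Rad G}, del hval d = a →
      del hval (val x * d) = a := fun {a d x} h => by
    rw [del, img h, add_comm 1 a, succ_succ]
  have hgconj : g * e * g ∈ E := by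
    have := conj_tr S hval hE he g
    rwa [inv_tr S hval hD hg] at this
  set v : Rad G := Rad.ofV ⟨g * e, hgV⟩ with hvdef
  have hvg : val v * g ∈ E := hgconj
  have l2 : ∀ a ∈ del hval '' D, ∀ x, Lift a x → a x = 0 := by
    rintro a - x ⟨d, hd, rfl, hx⟩
    have h := sq_tr S hval hE hx
    refine ext_val ?_
    show val (rep hval d x + x) = val 0
    rw [hval, val_zero' hval, val_rep, inv_tr S hval hD hd]
    have h' : val x * (d * val x * d) = 1 := by simpa only [mul_assoc] using h
    exact mul_eq_one_comm.1 h'
  have l1 : ∀ a ∈ del hval '' D, ∃ x, Lift a x := by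
    rintro _ ⟨d, hd, rfl⟩
    obtain ⟨d₀, -, hDeq⟩ := hD.2.1
    obtain ⟨q, hq⟩ : ∃ q, q * g * q⁻¹ = d := by
      have h1 := hg; have h2 := hd
      rw [hDeq] at h1 h2
      exact isConj_iff.1 ((IsConj.symm h1).trans h2)
    refine ⟨rep hval q v, d, hd, rfl, ?_⟩
    rw [val_rep, ← hq]
    have := conj_tr S hval hE hvg q
    convert this using 1
    group
  have l3 : ∀ a ∈ del hval '' D, ∀ b ∈ del hval '' D, ∀ x y, Lift a x → Lift b y → Orth a b →
      b x = a y := by
    rintro a - b - x y ⟨d, hd, rfl, hx⟩ ⟨f, hf, rfl, hy⟩ ho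
    have hdf : Commute d f := (commute_iff_orth S hval hD hd hf).2 ho
    have hc : Commute (val x * d) (val y * f) :=
      (commute_iff_orth S hval hE hx hy).2 (by rwa [delE rfl, delE rfl])
    have key : x + rep hval d y = y + rep hval f x := by
      refine ext_val ?_
      rw [hval, hval, val_rep, val_rep]
      refine mul_right_cancel (b := d * f) ?_
      calc val x * (d * val y * d⁻¹) * (d * f) = val x * d * (val y * f) := by group
        _ = val y * f * (val x * d) := hc.eq
        _ = val y * (f * val x * f⁻¹) * (f * d) := by group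
        _ = _ := by rw [hdf.eq]
    rw [rep_eq hval d, rep_eq hval f] at key
    change x + (y + del hval d y) = y + (x + del hval f x) at key
    rw [← add_assoc, ← add_assoc, add_comm y x] at key
    exact (add_left_cancel key).symm
  have l4 : ∀ a ∈ del hval '' D, ∀ b ∈ del hval '' D, ∀ x y, Lift a x → Lift b y → Adj a b →
      (1 + a * b + b * a) (x + y) = 0 := by
    rintro a haT b hbT x y ⟨d, hd, rfl, hx⟩ ⟨f, hf, rfl, hy⟩ hab
    have hdf : ¬ Commute d f := fun h =>
      hT.not_both haT ((commute_iff_orth S hval hD hd hf).1 h) hab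
    have hc : ¬ Commute (val x * d) (val y * f) := fun h => by
      have := (commute_iff_orth S hval hE hx hy).1 h
      rw [delE rfl, delE rfl] at this
      exact hT.not_both haT this hab
    have ord : ∀ {X : Set G}, Cfsg.IsThreeTranspositionClass X → ∀ p ∈ X, ∀ q ∈ X,
        ¬ Commute p q → (p * q) ^ 3 = 1 := fun {X} hX p hp q hq h =>
      (hX.1.2 p hp q hq).resolve_left fun h2 => h (by
        rw [pow_two, mul_eq_one_iff_eq_inv, mul_inv_rev, inv_of_order_two (hX.1.1 p hp),
          inv_of_order_two (hX.1.1 q hq)] at h2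
        exact h2)
    have h3 := ord hD d hd f hf hdf
    have h3' := ord hE _ hx _ hy hc
    set a := del hval d with hadef
    set b := del hval f with hbdef
    have hu : val (x + rep hval d y) * (d * f) = val x * d * (val y * f) := by
      rw [hval, val_rep]; group
    rw [← hu] at h3'
    have hs := orbit_sum hval h3 h3'
    have hP : (1 : AddMonoid.End (Rad G)) + rep hval (d * f) + rep hval (d * f) * rep hval (d * f) =
        1 + a * b + b * a := by
      have h1 : a * b * a = a := hab
      have h2 : b * a * b = b := hT.adj_symm haT hbT hab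
      have e1 := hT.sq a haT
      have e2 := hT.sq b hbT
      have e1' : ∀ z, a * (a * z) = 0 := fun z => by rw [← mul_assoc, e1, zero_mul]
      have e2' : ∀ z, b * (b * z) = 0 := fun z => by rw [← mul_assoc, e2, zero_mul]
      have h1' : a * (b * a) = a := by rw [← mul_assoc, h1]
      have h2' : b * (a * b) = b := by rw [← mul_assoc, h2]
      rw [map_mul, rep_eq hval d, rep_eq hval f, ← hadef, ← hbdef]
      simp only [mul_add, add_mul, mul_one, one_mul, mul_assoc, e1, e2, e1', e2', h1', h2',
        mul_zero, zero_mul, add_assoc, add_comm, add_left_comm, two_self, two_cancel, add_zero,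
        zero_add]
    have hs' : (1 + a * b + b * a) (x + rep hval d y) = 0 := by rw [← hP]; exact hs
    have hPa : (1 + a * b + b * a) * a = 0 := by
      rw [add_mul, add_mul, one_mul, show a * b * a = a from hab, mul_assoc, hT.sq a haT, mul_zero,
        add_zero, two_self]
    rw [rep_eq hval d, ← hadef] at hs'
    change (1 + a * b + b * a) (x + (y + a y)) = 0 at hs'
    rw [← add_assoc, map_add] at hs'
    have : (1 + a * b + b * a) (a y) = 0 := congrArg (fun q : AddMonoid.End (Rad G) => q y) hPa
    rwa [this, add_zero] at hs'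
  have hz : ∀ x, (∀ h ∈ del hval '' D, h x = 0) → x = 0 := by
    intro x hx
    have hc : ∀ d ∈ D, Commute (val x) d := fun d hd => by
      have := translate S hval hD hd x
      rw [hx _ ⟨d, hd, rfl⟩, val_zero' hval, one_mul] at this
      exact mul_inv_eq_iff_eq_mul.1 this
    have hcen : val x ∈ Subgroup.center G := mem_center_of_commutes hD.2.2 hc
    rw [S.centre, Subgroup.mem_bot] at hcen
    exact ext_val (hcen.trans (val_zero' hval).symm)
  obtain ⟨x, hx⟩ := section_trivial hT Lift l1 l2 l3 l4 hz
    (show del hval g ∈ del hval '' D from ⟨g, hg, rfl⟩) (v := v) ⟨g, hg, rfl, hvg⟩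
  have h1 : val x * g * (val x)⁻¹ ∈ D := conj_tr S hval hD hg _
  rw [translate S hval hD hg, hx] at h1
  have h2 := conj_tr S hval hD h1 g
  have : g * (val v * g) * g⁻¹ = e := by
    show g * (g * e * g) * g⁻¹ = e
    rw [← mul_assoc, ← mul_assoc, sq_tr S hval hD hg, one_mul, mul_inv_cancel_right]
  rwa [this] at h2

end

theorem unique_class {D E : Set G} (hD : Cfsg.IsThreeTranspositionClass D)
    (hE : Cfsg.IsThreeTranspositionClass E) (hZ : Subgroup.center G = ⊥)
    (hF : Cfsg.generalizedFittingSubgroup G = Cfsg.pCore 2 G)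
    (hV : Cfsg.IsElementaryAbelian 2 (Cfsg.pCore 2 G)) : E = D := by
  have S : Setting G := ⟨hV, fun g hg => by
    have : g ∈ Subgroup.centralizer (Cfsg.generalizedFittingSubgroup G : Set G) := by
      rw [hF]
      exact Subgroup.mem_centralizer_iff.2 fun v hv => (hg v hv).symm
    exact hF ▸ Solv.centralizer_gfit_le this, hZ⟩
  letI := radAddCommGroup S
  haveI := twoGroup_rad S
  have hval : ∀ x y : Rad G, val (x + y) = val x * val y := fun _ _ => rfl
  exact Set.Subset.antisymm (subset_class S hval hD hE) (subset_class S hval hE hD)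

end Cfsg.Agent.Spor.UniqueClass
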