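import Cfsg.Agent.Lib.Spor.UniqueClassSys

/-!
A plane at `a` against a further member.
-/

set_option autoImplicit false
set_option linter.unusedSimpArgs false
set_option linter.unusedSectionVars false

namespace Cfsg.Agent.Spor.UniqueClass

section

variable {R : Type*} [Ring R] [TwoZero R]

/-- a scalar with a square-zero perturbation -/
def Good (x v : R) : Prop := Scalar x (v + br x v) ∧ br x v * br x v = 0

/-- `0` or `1` -/
def Flat (v : R) : Prop := v = 0 ∨ v = 1

theorem scalar_succ {x c : R} : Scalar (x + 1) c ↔ Scalar x c := by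
  constructor
  · rintro (h | h | h | h)
    · exact Or.inl h
    · exact Or.inr (Or.inl h)
    · exact Or.inr (Or.inr (Or.inr h))
    · exact Or.inr (Or.inr (Or.inl (h.trans (succ_succ x))))
  · rintro (h | h | h | h)
    · exact Or.inl h
    · exact Or.inr (Or.inl h)
    · exact Or.inr (Or.inr (Or.inr (h.trans (succ_succ x).symm)))
    · exact Or.inr (Or.inr (Or.inl h))

theorem good_of_flat (x : R) {v : R} (h : Flat v) : Good x v ∧ br x v = 0 := by
  have hs : Scalar x v := h.elim Or.inl fun e => Or.inr (Or.inl e)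
  have hb := br_scalar hs
  exact ⟨⟨by rw [hb, add_zero]; exact hs, by rw [hb, mul_zero]⟩, hb⟩

theorem br_plus_one (x v : R) : br x (v + 1) = br x v := by rw [br_add, br_one, add_zero]

theorem good_plus_one {x v : R} (h : Good x v) : Good x (v + 1) := by
  refine ⟨?_, by rw [br_plus_one]; exact h.2⟩
  rw [br_plus_one, add_assoc, add_comm 1, ← add_assoc]
  exact scalar_add h.1 (Or.inr (Or.inl rfl))

theorem good_of_plus_one {x v : R} (h : Good x (v + 1)) : Good x v := by
  have := good_plus_one h
  rwa [succ_succ] at this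

theorem good_succ {x v : R} (h : Good (x + 1) v) : Good x v := by
  obtain ⟨h1, h2⟩ := h
  rw [br_succ] at h1 h2
  exact ⟨scalar_succ.1 h1, h2⟩

theorem good_left {x c v : R} (hx : x * x = x + 1) (hc : Scalar x c) (h : Good x v) :
    Good x (c * v) := by
  refine ⟨?_, ?_⟩
  · rw [br_left (scalar_comm hc), ← mul_add]
    exact scalar_mul hx hc h.1
  · rw [br_left (scalar_comm hc)]
    obtain ⟨c', -, hcc, -⟩ := semi_scalar (br_conj hx v) hc
    calc c * br x v * (c * br x v) = c * (br x v * c) * br x v := by simp only [mul_assoc]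
      _ = c * c' * (br x v * br x v) := by rw [hcc]; simp only [mul_assoc]
      _ = 0 := by rw [h.2, mul_zero]

theorem small_plus_one {v : R} (h : Small v) : Small (v + 1) := by
  rcases h with rfl | rfl | h
  · exact Or.inr (Or.inl (zero_add 1))
  · exact Or.inl (two_self 1)
  · exact Or.inr (Or.inr (cube_succ h))

theorem small_cases {v : R} (h : Small v) : Flat v ∨ v * v = v + 1 := by
  rcases h with h | h | h
  · exact Or.inl (Or.inl h)
  · exact Or.inl (Or.inr h)
  · exact Or.inr h

theorem cube_ne_zero {v : R} (h : v * v = v + 1) (h1 : (1 : R) ≠ 0) : v ≠ 0 := by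
  rintro rfl
  rw [mul_zero, zero_add] at h
  exact h1 h.symm

theorem cube_ne_one {v : R} (h : v * v = v + 1) (h1 : (1 : R) ≠ 0) : v ≠ 1 := by
  rintro rfl
  rw [mul_one, two_self] at h
  exact h1 h

theorem one_root {x e : R} (h1 : (1 : R) ≠ 0) (hx : x * x = x + 1) (he : e * e = e + 1)
    (hs : Small (x * e)) : Good x e ∧ (e = x + br x e ∨ br x e = 0) := by
  rcases hs with h | h | h
  · exfalso
    refine cube_ne_zero he h1 ?_
    rw [← one_mul e, ← (cube_inv hx).2, mul_assoc, h, mul_zero]
  · have : e = x + 1 := by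
      calc e = (x + 1) * (x * e) := by rw [← mul_assoc, (cube_inv hx).2, one_mul]
        _ = x + 1 := by rw [h, mul_one]
    have hb : br x e = 0 := by rw [this, br_plus_one, br_self]
    exact ⟨⟨by rw [hb, add_zero, this]; exact Or.inr (Or.inr (Or.inr rfl)), by rw [hb, mul_zero]⟩,
      Or.inr hb⟩
  · obtain ⟨-, h3, h4⟩ := three_roots hx he h
    refine ⟨⟨?_, h4⟩, Or.inl h3⟩
    have : e + br x e = x := (two_eq_add h3.symm).symm
    rw [this]
    exact Or.inr (Or.inr (Or.inl rfl))

theorem loop_root {X d e : R} (hX : X * X = X + 1) (hd : d * d = d + 1) (he : e * e = e + 1)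
    (h : (e * d + X * (d + 1)) * ((d + 1) * (e + 1) + d * (X + 1)) = 1) :
    X * d * (e + 1) * (X * d * (e + 1)) = X * d * (e + 1) + 1 := by
  obtain ⟨d1, d2⟩ := cube_inv hd
  obtain ⟨x1, x2⟩ := cube_inv hX
  obtain ⟨e1, e2⟩ := cube_inv he
  have hdd := cube_succ hd
  rw [succ_succ] at hdd
  set W := X * d * (e + 1) with hW
  set W' := e * (d + 1) * (X + 1) with hW'
  have hWW : W * W' = 1 := by
    calc W * W' = X * (d * ((e + 1) * e) * (d + 1)) * (X + 1) := by
          rw [hW, hW']; simp only [mul_assoc]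
      _ = 1 := by rw [e2, mul_one, d1, mul_one, x1]
  have hsum : (e * d + X * (d + 1)) * ((d + 1) * (e + 1) + d * (X + 1)) = 1 + 1 + (W + W') := by
    have t1 : e * d * ((d + 1) * (e + 1)) = 1 := by
      rw [mul_assoc, ← mul_assoc d, d1, one_mul, e1]
    have t2 : e * d * (d * (X + 1)) = W' := by
      rw [hW', mul_assoc, ← mul_assoc d, hd]; simp only [mul_assoc]
    have t3 : X * (d + 1) * ((d + 1) * (e + 1)) = W := by
      rw [hW, mul_assoc, ← mul_assoc (d + 1), hdd]; simp only [mul_assoc]
    have t4 : X * (d + 1) * (d * (X + 1)) = 1 := by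
      rw [mul_assoc, ← mul_assoc (d + 1), d2, one_mul, x1]
    rw [mul_add, add_mul _ _ ((d + 1) * (e + 1)), add_mul _ _ (d * (X + 1)), t1, t2, t3, t4]
    abel
  rw [hsum, two_self, zero_add] at h
  have : W' = W + 1 := by rw [← h, two_cancel]
  rw [this, mul_add, mul_one] at hWW
  rw [← hWW]
  simp only [add_assoc, add_comm, add_left_comm, two_self, two_cancel, add_zero, zero_add]

/-- what a plane knows of a further member with values `d`, `e` -/
structure Against (X d e : R) : Prop where
  goodd : Good X d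
  goode : Good X e
  prop : d * d = d + 1 → e * e = e + 1 → ∃ c, Scalar X c ∧ br X d = c * br X e
  line : Flat d ∨ Flat e ∨ Flat (X * e + (X + 1) * d) ∨ Flat ((X + 1) * (e + 1) + X * d)
  zerod : d = 0 → e = X + br X e ∨ br X e = 0
  zeroe : e = 0 → d = X + 1 + br X d ∨ br X d = 0

theorem against_scaled {X x d e : R} (h1 : (1 : R) ≠ 0) (hX : X * X = X + 1)
    (hxX : x = X ∨ x = X + 1) (he : e * e = e + 1) (hd : d * d = d + 1) (h : d = x * e) :
    Good X d ∧ Good X e ∧ br X d = x * br X e := by
  have hxs : Scalar X x := hxX.elim (fun h => Or.inr (Or.inr (Or.inl h))) fun h => Or.inr (Or.inr (Or.inr h))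
  have hx : x * x = x + 1 := hxX.elim (fun h => h ▸ hX) fun h => h ▸ cube_succ hX
  have hg : Good X e := by
    have hg := (one_root h1 hx he (by rw [← h]; exact Or.inr (Or.inr hd))).1
    rcases hxX with e' | e'
    · rwa [e'] at hg
    · rw [e'] at hg
      exact good_succ hg
  exact ⟨h ▸ good_left hX hxs hg, hg, by rw [h, br_left (scalar_comm hxs)]⟩

theorem against_alg {X d e : R} (h1 : (1 : R) ≠ 0) (hX : X * X = X + 1) (hd : Small d) (he : Small e)
    (hq : Small (X * e + (X + 1) * d)) (hq' : Small ((X + 1) * (e + 1) + X * d))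
    (hW : d * d = d + 1 → e * e = e + 1 → X * e + (X + 1) * d ≠ 0 → X * e + (X + 1) * d ≠ 1 →
      (X + 1) * (e + 1) + X * d ≠ 0 → (X + 1) * (e + 1) + X * d ≠ 1 → False) :
    Against X d e := by
  have hX' := cube_succ hX
  rcases small_cases hd with fd | cd <;> rcases small_cases he with fe | ce
  · exact ⟨(good_of_flat X fd).1, (good_of_flat X fe).1,
      fun _ _ => ⟨0, Or.inl rfl, by rw [(good_of_flat X fd).2, zero_mul]⟩, Or.inl fd,
      fun _ => Or.inr (good_of_flat X fe).2, fun _ => Or.inr (good_of_flat X fd).2⟩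
  · obtain ⟨gd, bd⟩ := good_of_flat X fd
    have key : Good X e ∧ (d = 0 → e = X + br X e ∨ br X e = 0) := by
      rcases fd with d0 | d1
      · rw [d0, mul_zero, add_zero] at hq
        obtain ⟨g, o⟩ := one_root h1 hX ce hq
        exact ⟨g, fun _ => o⟩
      · rw [d1, mul_one] at hq'
        have hh : Small ((X + 1) * e) := by
          have := small_plus_one hq'
          rwa [show (X + 1) * (e + 1) + X + 1 = (X + 1) * e by
            rw [mul_add (X + 1) e 1, mul_one, add_assoc, add_assoc, two_self, add_zero]] at this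
        obtain ⟨g, -⟩ := one_root h1 hX' ce hh
        exact ⟨good_succ g, fun d0 => absurd (d0.symm.trans d1) (Ne.symm h1)⟩
    exact ⟨gd, key.1, fun hh _ => absurd fd fun f => f.elim (cube_ne_zero hh h1) (cube_ne_one hh h1),
      Or.inl fd, key.2, fun h => absurd h (cube_ne_zero ce h1)⟩
  · obtain ⟨ge, be⟩ := good_of_flat X fe
    have key : Good X d ∧ (e = 0 → d = X + 1 + br X d ∨ br X d = 0) := by
      rcases fe with e0 | e1
      · rw [e0, mul_zero, zero_add] at hq
        obtain ⟨g, o⟩ := one_root h1 hX' cd hq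
        rw [br_succ] at o
        exact ⟨good_succ g, fun _ => o⟩
      · rw [e1, two_self, mul_zero, zero_add] at hq'
        obtain ⟨g, -⟩ := one_root h1 hX cd hq'
        exact ⟨g, fun e0 => absurd (e0.symm.trans e1) (Ne.symm h1)⟩
    exact ⟨key.1, ge, fun _ hh => absurd fe fun f => f.elim (cube_ne_zero hh h1) (cube_ne_one hh h1),
      Or.inr (Or.inl fe), fun h => absurd h (cube_ne_zero cd h1), key.2⟩
  · have nz : ∀ {v : R}, v * v = v + 1 → ¬ v = 0 := fun h => cube_ne_zero h h1
    have fin : ∀ x d' e' : R, (x = X ∨ x = X + 1) → d' * d' = d' + 1 → e' * e' = e' + 1 →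
        d' = x * e' → (d' = d ∨ d' = d + 1) → (e' = e ∨ e' = e + 1) →
        Good X d ∧ Good X e ∧ ∃ c, Scalar X c ∧ br X d = c * br X e := by
      intro x d' e' hx hd' he' h hdd hee
      obtain ⟨g1, g2, g3⟩ := against_scaled h1 hX hx he' hd' h
      refine ⟨?_, ?_, x, hx.elim (fun h => Or.inr (Or.inr (Or.inl h))) fun h => Or.inr (Or.inr (Or.inr h)), ?_⟩
      · rcases hdd with r | r
        · rwa [r] at g1
        · rw [r] at g1; exact good_of_plus_one g1
      · rcases hee with r | r
        · rwa [r] at g2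
        · rw [r] at g2; exact good_of_plus_one g2
      · have b1 : br X d' = br X d := by rcases hdd with r | r <;> rw [r]; rw [br_plus_one]
        have b2 : br X e' = br X e := by rcases hee with r | r <;> rw [r]; rw [br_plus_one]
        rw [← b1, g3, b2]
    have x1 := (cube_inv hX).1
    have x2 := (cube_inv hX).2
    have xx : (X + 1) * (X + 1) = X := by rw [hX', succ_succ]
    by_cases a0 : X * e + (X + 1) * d = 0
    · rw [← two_add_eq] at a0
      have : d = (X + 1) * e := by
        calc d = X * ((X + 1) * d) := by rw [← mul_assoc, x1, one_mul]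
          _ = (X + 1) * e := by rw [← a0, ← mul_assoc, hX]
      obtain ⟨p, q, r⟩ := fin _ d e (Or.inr rfl) cd ce this (Or.inl rfl) (Or.inl rfl)
      exact ⟨p, q, fun _ _ => r, Or.inr (Or.inr (Or.inl (Or.inl (two_add_eq.1 a0)))),
        fun h => absurd h (nz cd), fun h => absurd h (nz ce)⟩
    by_cases a1 : X * e + (X + 1) * d = 1
    · have e1 : X * (e + 1) = (X + 1) * (d + 1) := by
        rw [mul_add X, mul_one, mul_add (X + 1), mul_one, two_add_eq]
        calc X * e + X + ((X + 1) * d + (X + 1))
            = (X * e + (X + 1) * d) + (X + (X + 1)) := by abel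
          _ = 0 := by rw [a1, two_cancel, two_self]
      have : d + 1 = (X + 1) * (e + 1) := by
        calc d + 1 = X * ((X + 1) * (d + 1)) := by rw [← mul_assoc, x1, one_mul]
          _ = (X + 1) * (e + 1) := by rw [← e1, ← mul_assoc, hX]
      obtain ⟨p, q, r⟩ := fin _ (d + 1) (e + 1) (Or.inr rfl) (cube_succ cd) (cube_succ ce) this
        (Or.inr rfl) (Or.inr rfl)
      exact ⟨p, q, fun _ _ => r, Or.inr (Or.inr (Or.inl (Or.inr a1))),
        fun h => absurd h (nz cd), fun h => absurd h (nz ce)⟩
    by_cases b0 : (X + 1) * (e + 1) + X * d = 0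
    · rw [← two_add_eq] at b0
      have : d = X * (e + 1) := by
        calc d = (X + 1) * (X * d) := by rw [← mul_assoc, x2, one_mul]
          _ = X * (e + 1) := by rw [← b0, ← mul_assoc, xx]
      obtain ⟨p, q, r⟩ := fin _ d (e + 1) (Or.inl rfl) cd (cube_succ ce) this (Or.inl rfl) (Or.inr rfl)
      exact ⟨p, q, fun _ _ => r, Or.inr (Or.inr (Or.inr (Or.inl (two_add_eq.1 b0)))),
        fun h => absurd h (nz cd), fun h => absurd h (nz ce)⟩
    by_cases b1 : (X + 1) * (e + 1) + X * d = 1
    · have e1 : (X + 1) * e = X * (d + 1) := by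
        rw [mul_add X, mul_one, two_add_eq]
        calc (X + 1) * e + (X * d + X)
            = ((X + 1) * (e + 1) + X * d) + ((X + 1) + X) := by
              rw [mul_add (X + 1) e 1, mul_one]
              simp only [add_assoc, add_comm, add_left_comm, two_self, two_cancel, add_zero,
                zero_add]
          _ = 0 := by
              rw [b1]
              simp only [add_assoc, add_comm, add_left_comm, two_self, two_cancel, add_zero,
                zero_add]
      have : d + 1 = X * e := by
        calc d + 1 = (X + 1) * (X * (d + 1)) := by rw [← mul_assoc, x2, one_mul]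
          _ = X * e := by rw [← e1, ← mul_assoc, xx]
      obtain ⟨p, q, r⟩ := fin _ (d + 1) e (Or.inl rfl) (cube_succ cd) ce this (Or.inr rfl) (Or.inl rfl)
      exact ⟨p, q, fun _ _ => r, Or.inr (Or.inr (Or.inr (Or.inr b1))),
        fun h => absurd h (nz cd), fun h => absurd h (nz ce)⟩
    exact (hW cd ce a0 a1 b0 b1).elim

end

/-! ### planes -/

variable {M : Type*} [AddCommGroup M] [TwoGroup M] {T : Set (AddMonoid.End M)}

/-- a plane through `a` -/
structure Plane (T : Set (AddMonoid.End M)) (a h f : AddMonoid.End M) : Prop where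
  hh : Nb T a h
  hf : Nb T a f
  cub : lp a h f * lp a h f = lp a h f + 1

variable (hT : Sys T) {a : AddMonoid.End M} (ha : a ∈ T)
include hT ha

theorem lp_self {g : AddMonoid.End M} (hg : Nb T a g) : lp a g g = 0 :=
  lp_orth hT ha ⟨hT.sq g hg.1, hT.sq g hg.1⟩

theorem lp_br_symm {g k : AddMonoid.End M} (hg : Nb T a g) (hk : Nb T a k) (X : Corner a) :
    br X (lp a k g) = br X (lp a g k) := by
  rcases hT.dich g hg.1 k hk.1 with ho | hadj
  · rw [lp_orth hT ha ho, lp_orth hT ha (hT.orth_symm ho)]
  · rcases lp_pair hT ha hg hk hadj with h | ⟨-, h, -⟩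
    · have := lp_mul_symm hT ha hg hk hadj
      rw [h, mul_one] at this
      rw [h, this]
    · rw [h, br_plus_one]

variable {h f : AddMonoid.End M} (hP : Plane T a h f)
include hP

theorem Plane.line_nb : Nb T a (mv f h) := by
  obtain ⟨hadj, -, -⟩ := lp_cubic hT ha hP.hh hP.hf hP.cub
  rw [← hT.mv_comm hP.hh.1 hP.hf.1 hadj]
  exact (lp_cubic hT ha hP.hh hP.hf hP.cub).2.2

theorem Plane.flip : Plane T a (mv a h) f := by
  refine ⟨hP.hh.flip hT ha, hP.hf, ?_⟩
  rw [lp_flip_left hT ha hP.hh hP.hf]
  exact cube_succ hP.cub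

theorem Plane.loop {g : AddMonoid.End M} (hg : Nb T a g)
    (hd : lp a f g * lp a f g = lp a f g + 1) (he : lp a h g * lp a h g = lp a h g + 1)
    (hne : lp a h f * lp a h g + (lp a h f + 1) * lp a f g ≠ 0) :
    lp a h f * lp a f g * (lp a h g + 1) * (lp a h f * lp a f g * (lp a h g + 1)) =
      lp a h f * lp a f g * (lp a h g + 1) + 1 := by
  set X := lp a h f
  set d := lp a f g
  set e := lp a h g
  obtain ⟨hadj, hgf, hk⟩ := lp_cubic hT ha hP.hf hg hd
  have hhf : lp a f h = X + 1 := (lp_cubic hT ha hP.hh hP.hf hP.cub).2.1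
  have hgh : lp a g h = e + 1 := (lp_cubic hT ha hP.hh hg he).2.1
  have hd' := lp_symm_cubic hT ha hP.hf hg hd
  have c1 : lp a h (mv f g) = e * d + X * (d + 1) := by
    rw [lp_third_right hT ha hP.hf hg hd', hgf, succ_succ]
  have c2 : lp a (mv f g) h = (d + 1) * (e + 1) + d * (X + 1) := by
    rw [lp_third_left hT ha hP.hf hg hd', hgf, succ_succ, hgh, hhf]
  rcases hT.dich h hP.hh.1 _ hk.1 with ho | hadj'
  · exfalso
    apply hne
    have h0 := lp_orth hT ha ho (a := a)
    rw [c1, ← two_add_eq] at h0
    obtain ⟨d1, d2⟩ := cube_inv hd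
    have e1 : e = X * d := by
      calc e = e * d * (d + 1) := by rw [mul_assoc, d1, mul_one]
        _ = X * d := by rw [h0, mul_assoc, cube_succ hd, succ_succ]
    rw [← two_add_eq, e1, ← mul_assoc, hP.cub]
  · exact loop_root hP.cub hd he
      (c1 ▸ c2 ▸ lp_mul_symm hT ha hk hP.hh (hT.adj_symm hP.hh.1 hk.1 hadj'))

theorem Plane.against {g : AddMonoid.End M} (hg : Nb T a g) :
    Against (lp a h f) (lp a f g) (lp a h g) := by
  have h1 := corner_nontrivial (hT.nz a ha)
  have hP' := hP.flip hT ha
  have e1 : lp a (mv a h) f = lp a h f + 1 := lp_flip_left hT ha hP.hh hP.hf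
  have e2 : lp a (mv a h) g = lp a h g + 1 := lp_flip_left hT ha hP.hh hg
  refine against_alg h1 hP.cub (lp_small hT ha hP.hf hg) (lp_small hT ha hP.hh hg) ?_ ?_ ?_
  · rw [← lp_third_left hT ha hP.hf hP.hh hP.cub]
    exact lp_small hT ha (hP.line_nb hT ha) hg
  · have := lp_small hT ha (hP'.line_nb hT ha) hg
    rwa [lp_third_left hT ha hP'.hf hP'.hh hP'.cub, e1, e2, succ_succ] at this
  · intro hd he n0 n1 m0 m1
    have hXc := hP.cub
    set X := lp a h f with hXdef
    set d := lp a f g with hddef
    set e := lp a h g with hedef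
    have hA := hP.loop hT ha hg hd he n0
    have hC : (X + 1) * d * e * ((X + 1) * d * e) = (X + 1) * d * e + 1 := by
      have := hP'.loop hT ha hg hd (by rw [e2]; exact cube_succ he)
        (by rw [e1, e2, succ_succ]; exact m0)
      rwa [e1, e2, succ_succ] at this
    have hD : X * (d + 1) * e * (X * (d + 1) * e) = X * (d + 1) * e + 1 := by
      have g1 : lp a f (mv a g) = d + 1 := lp_flip_right hT ha hP.hf hg
      have g2 : lp a h (mv a g) = e + 1 := lp_flip_right hT ha hP.hh hg
      have := hP.loop hT ha (hg.flip hT ha) (by rw [g1]; exact cube_succ hd)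
        (by rw [g2]; exact cube_succ he) (by
          rw [g1, g2, ← hXdef]
          intro h
          apply n1
          rw [two_add_eq, ← h]
          simp only [mul_add, add_mul, mul_one, one_mul, add_assoc, add_comm, add_left_comm,
            two_self, two_cancel, add_zero, zero_add])
      rwa [g1, g2, succ_succ] at this
    have hB : (X + 1) * (d + 1) * (e + 1) * ((X + 1) * (d + 1) * (e + 1)) =
        (X + 1) * (d + 1) * (e + 1) + 1 := by
      have f1 : lp a h (mv a f) = X + 1 := lp_flip_right hT ha hP.hh hP.hf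
      have f2 : lp a (mv a f) g = d + 1 := lp_flip_left hT ha hP.hf hg
      have hQ : Plane T a h (mv a f) := ⟨hP.hh, hP.hf.flip hT ha, by rw [f1]; exact cube_succ hXc⟩
      have := hQ.loop hT ha hg (by rw [f2]; exact cube_succ hd) he (by
          rw [f1, f2, succ_succ]
          intro h
          apply m1
          rw [two_add_eq, ← h, ← hedef]
          simp only [mul_add, add_mul, mul_one, one_mul, add_assoc, add_comm, add_left_comm,
            two_self, two_cancel, add_zero, zero_add])
      rwa [f1, f2] at this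
    exact cube_ne_one hd h1 (four_roots hXc hd he hA hB hC hD)

end Cfsg.Agent.Spor.UniqueClass
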