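import Cfsg.Agent.Lib.Spor.UniqueClassAlg

/-!
The image in endomorphisms of a class of 3-transpositions acting on an elementary abelian group,
and the corner ring at one member.
-/

set_option autoImplicit false
set_option linter.unusedSimpArgs false
set_option linter.unusedSectionVars false

namespace Cfsg.Agent.Spor.UniqueClass

/-- an abelian group of exponent two -/
class TwoGroup (M : Type*) [AddCommGroup M] : Prop where
  two : ∀ x : M, x + x = 0

variable {M : Type*} [AddCommGroup M] [TwoGroup M]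

instance : TwoZero (AddMonoid.End M) := ⟨fun f => AddMonoidHom.ext fun x => TwoGroup.two (f x)⟩

instance (A : AddSubgroup M) : TwoGroup A := ⟨fun x => Subtype.ext (TwoGroup.two (x : M))⟩

/-- the two members of a pair meet -/
def Adj (a b : (AddMonoid.End M)) : Prop := a * b * a = a

/-- the two members of a pair kill each other -/
def Orth (a b : (AddMonoid.End M)) : Prop := a * b = 0 ∧ b * a = 0

/-- conjugate of `b` by `1 + a` -/
def mv (a b : (AddMonoid.End M)) : (AddMonoid.End M) := (1 + a) * b * (1 + a)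

structure Sys (T : Set (AddMonoid.End M)) : Prop where
  sq : ∀ a ∈ T, a * a = 0
  nz : ∀ a ∈ T, a ≠ 0
  dich : ∀ a ∈ T, ∀ b ∈ T, Orth a b ∨ Adj a b
  conj : ∀ a ∈ T, ∀ b ∈ T, mv a b ∈ T
  sep : ∀ a ∈ T, ∀ b ∈ T, (∀ x ∈ T, Orth a x → Orth b x) → a = b

theorem adj_expand {a b : (AddMonoid.End M)} (h : Adj a b) : mv a b = b + a * b + b * a + a := by
  have h' : a * b * a = a := h
  simp only [mv, add_mul, mul_add, one_mul, mul_one, h', add_assoc, add_comm, add_left_comm]

section

variable {T : Set (AddMonoid.End M)} (hT : Sys T)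
include hT

theorem Sys.orth_symm {a b : (AddMonoid.End M)} (h : Orth a b) : Orth b a := ⟨h.2, h.1⟩

theorem Sys.not_both {a b : (AddMonoid.End M)} (ha : a ∈ T) (h : Orth a b) (h' : Adj a b) : False :=
  hT.nz a ha (by rw [← h', h.1, zero_mul])

theorem Sys.adj_symm {a b : (AddMonoid.End M)} (ha : a ∈ T) (hb : b ∈ T) (h : Adj a b) : Adj b a :=
  (hT.dich b hb a ha).elim (fun ho => (hT.not_both ha ⟨ho.2, ho.1⟩ h).elim) id

theorem Sys.mv_comm {a b : (AddMonoid.End M)} (ha : a ∈ T) (hb : b ∈ T) (h : Adj a b) : mv a b = mv b a := by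
  rw [adj_expand h, adj_expand (hT.adj_symm ha hb h)]
  abel

/-- the third member of a line meets both -/
theorem Sys.mv_adj {a b : (AddMonoid.End M)} (ha : a ∈ T) (h : Adj a b) : Adj a (mv a b) := by
  have h' : a * b * a = a := h
  have h2 : ∀ z : (AddMonoid.End M), a * (a * z) = 0 := fun z => by rw [← mul_assoc, hT.sq a ha, zero_mul]
  show a * mv a b * a = a
  rw [adj_expand h]
  simp only [mul_add, add_mul, mul_assoc, hT.sq a ha, h2, mul_zero, zero_mul, add_zero, zero_add]
  rw [← mul_assoc, h']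

end

/-! ### the corner ring -/

/-- the image of `a` -/
abbrev img (a : (AddMonoid.End M)) : AddSubgroup M := AddMonoidHom.range (a : M →+ M)

/-- endomorphisms of the image of `a` -/
abbrev Corner (a : (AddMonoid.End M)) := AddMonoid.End (img a)

/-- `X` seen at `a` -/
def loc (a X : (AddMonoid.End M)) : Corner a :=
  AddMonoidHom.mk' (fun u => ⟨a (X (u : M)), ⟨X (u : M), rfl⟩⟩)
    (fun u v => Subtype.ext (by simp))

theorem loc_apply (a X : (AddMonoid.End M)) (u : img a) : ((loc a X u : img a) : M) = a (X (u : M)) := rfl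

theorem loc_add (a X Y : (AddMonoid.End M)) : loc a (X + Y) = loc a X + loc a Y :=
  AddMonoidHom.ext fun u => Subtype.ext (map_add a (X (u : M)) (Y (u : M)))

theorem loc_zero (a : (AddMonoid.End M)) : loc a 0 = 0 :=
  AddMonoidHom.ext fun _ => Subtype.ext (map_zero a)

theorem loc_mul (a X Y : (AddMonoid.End M)) : loc a X * loc a Y = loc a (X * a * Y) :=
  AddMonoidHom.ext fun _ => Subtype.ext rfl

theorem loc_congr {a X Y : (AddMonoid.End M)} (h : a * X * a = a * Y * a) : loc a X = loc a Y := by
  refine AddMonoidHom.ext fun u => Subtype.ext ?_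
  obtain ⟨v, hv⟩ := u.2
  show a (X (u : M)) = a (Y (u : M))
  rw [← hv]
  exact congrArg (fun f : (AddMonoid.End M) => f v) h

theorem loc_eq_one {a X : (AddMonoid.End M)} (h : a * X * a = a) : loc a X = 1 := by
  refine AddMonoidHom.ext fun u => Subtype.ext ?_
  obtain ⟨v, hv⟩ := u.2
  show a (X (u : M)) = (u : M)
  rw [← hv]
  exact congrArg (fun f : (AddMonoid.End M) => f v) h

theorem loc_eq_zero {a X : (AddMonoid.End M)} (h : a * X * a = 0) : loc a X = 0 := by
  rw [loc_congr (Y := 0) (by rw [h, mul_zero, zero_mul]), loc_zero]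

theorem loc_one {a : (AddMonoid.End M)} (h : a * a = 0) : loc a 1 = 0 := loc_eq_zero (by rw [mul_one, h])

theorem corner_nontrivial {a : (AddMonoid.End M)} (h : a ≠ 0) : (1 : Corner a) ≠ 0 := by
  intro e
  apply h
  ext v
  exact congrArg Subtype.val (congrArg (fun f : Corner a => f ⟨a v, ⟨v, rfl⟩⟩) e)

/-- members meeting `a` -/
def Nb (T : Set (AddMonoid.End M)) (a g : (AddMonoid.End M)) : Prop := g ∈ T ∧ Adj a g

/-- the loop through `g` and `h` -/
def lp (a g h : (AddMonoid.End M)) : Corner a := loc a (g * h)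

section

variable {T : Set (AddMonoid.End M)} (hT : Sys T) {a : (AddMonoid.End M)} (ha : a ∈ T)
include hT ha

theorem Nb.loc_one' {g : (AddMonoid.End M)} (hg : Nb T a g) : loc a g = 1 := loc_eq_one hg.2

theorem lp_orth {g h : (AddMonoid.End M)} (ho : Orth g h) : lp a g h = 0 := by rw [lp, ho.1, loc_zero]

theorem lp_chain {g X Y : (AddMonoid.End M)} (hg : Adj g a) :
    loc a (X * g * Y) = loc a (X * g) * loc a (g * Y) := by
  rw [loc_mul]
  congr 1
  have h' : g * a * g = g := hg
  calc X * g * Y = X * (g * a * g) * Y := by rw [h']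
    _ = X * g * a * (g * Y) := by simp only [mul_assoc]

theorem lp_mul_symm {f h : (AddMonoid.End M)} (hf : Nb T a f) (hh : Nb T a h) (hfh : Adj f h) :
    lp a h f * lp a f h = 1 := by
  have h1 : h * f * h = h := hT.adj_symm hf.1 hh.1 hfh
  have h2 : f * a * f = f := hT.adj_symm ha hf.1 hf.2
  rw [lp, lp, loc_mul]
  refine loc_eq_one ?_
  calc a * (h * f * a * (f * h)) * a = a * (h * (f * a * f) * h) * a := by simp only [mul_assoc]
    _ = a * h * a := by rw [h2, h1]
    _ = a := hh.2

theorem lp_pair {f h : (AddMonoid.End M)} (hf : Nb T a f) (hh : Nb T a h) (hfh : Adj f h) :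
    lp a f h = 1 ∨
      lp a f h * lp a f h = lp a f h + 1 ∧ lp a h f = lp a f h + 1 ∧ Nb T a (mv f h) := by
  have hy : mv f h ∈ T := hT.conj f hf.1 h hh.1
  have hloc : loc a (mv f h) = lp a f h + lp a h f := by
    rw [adj_expand hfh, loc_add, loc_add, loc_add, hh.loc_one' hT ha, hf.loc_one' hT ha, lp, lp]
    simp only [add_assoc, add_comm, add_left_comm, two_self, two_cancel, add_zero, zero_add]
  have hinv := lp_mul_symm hT ha hf hh hfh
  rcases hT.dich a ha _ hy with ho | hadj
  · left
    have e : f * (mv f h) * a = 0 := by rw [mul_assoc, ho.2, mul_zero]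
    rw [adj_expand hfh] at e
    have h1 : f * h * f = f := hfh
    have e2 : f * h * a + f * a = 0 := by
      have : f * (h + f * h + h * f + f) * a
          = f * h * a + (f * f) * h * a + f * h * f * a + f * f * a := by
        simp only [mul_add, add_mul, mul_assoc]
      rw [this, hT.sq f hf.1, h1] at e
      simpa using e
    rw [← two_add_eq] at e2
    refine loc_eq_one ?_
    calc a * (f * h) * a = a * (f * h * a) := by simp only [mul_assoc]
      _ = a * f * a := by rw [e2, mul_assoc]
      _ = a := hf.2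
  · right
    have h1 : lp a h f = lp a f h + 1 := by
      rw [← Nb.loc_one' hT ha (g := mv f h) ⟨hy, hadj⟩, hloc, two_cancel]
    refine ⟨?_, h1, hy, hadj⟩
    rw [h1, add_mul, one_mul] at hinv
    rw [← hinv]
    simp only [add_assoc, add_comm, add_left_comm, two_self, two_cancel, add_zero, zero_add]

theorem lp_small {f h : (AddMonoid.End M)} (hf : Nb T a f) (hh : Nb T a h) : Small (lp a f h) := by
  rcases hT.dich f hf.1 h hh.1 with ho | hadj
  · exact Or.inl (lp_orth hT ha ho)
  · rcases lp_pair hT ha hf hh hadj with h1 | h1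
    · exact Or.inr (Or.inl h1)
    · exact Or.inr (Or.inr h1.1)

theorem lp_cubic {f h : (AddMonoid.End M)} (hf : Nb T a f) (hh : Nb T a h)
    (hc : lp a f h * lp a f h = lp a f h + 1) :
    Adj f h ∧ lp a h f = lp a f h + 1 ∧ Nb T a (mv f h) := by
  have hne := corner_nontrivial (hT.nz a ha)
  rcases hT.dich f hf.1 h hh.1 with ho | hadj
  · rw [lp_orth hT ha ho, mul_zero, zero_add] at hc
    exact (hne hc.symm).elim
  · rcases lp_pair hT ha hf hh hadj with h1 | h1
    · rw [h1, mul_one, two_self] at hc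
      exact (hne hc).elim
    · exact ⟨hadj, h1.2⟩

theorem lp_symm_cubic {f h : (AddMonoid.End M)} (hf : Nb T a f) (hh : Nb T a h)
    (hc : lp a f h * lp a f h = lp a f h + 1) :
    lp a h f * lp a h f = lp a h f + 1 := by
  rw [(lp_cubic hT ha hf hh hc).2.1]
  exact cube_succ hc

theorem Nb.flip {g : (AddMonoid.End M)} (hg : Nb T a g) : Nb T a (mv a g) :=
  ⟨hT.conj a ha g hg.1, hT.mv_adj ha hg.2⟩

theorem lp_flip_left {g k : (AddMonoid.End M)} (hg : Nb T a g) (hk : Nb T a k) :
    lp a (mv a g) k = lp a g k + 1 := by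
  have h1 : a * g * a = a := hg.2
  rw [lp, adj_expand hg.2, add_mul, add_mul, add_mul, loc_add, loc_add, loc_add
    ]
  have e1 : loc a (a * g * k) = 0 := loc_eq_zero (by simp [← mul_assoc, hT.sq a ha])
  have e2 : loc a (g * a * k) = 1 := by rw [← loc_mul, hg.loc_one' hT ha, hk.loc_one' hT ha, mul_one]
  have e3 : loc a (a * k) = 0 := loc_eq_zero (by simp [← mul_assoc, hT.sq a ha])
  rw [e1, e2, e3, add_zero, add_zero, lp]

theorem lp_flip_right {g k : (AddMonoid.End M)} (hg : Nb T a g) (hk : Nb T a k) :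
    lp a g (mv a k) = lp a g k + 1 := by
  rw [lp, adj_expand hk.2, mul_add, mul_add, mul_add, loc_add, loc_add, loc_add]
  have e1 : loc a (g * (a * k)) = 1 := by
    rw [← mul_assoc, ← loc_mul, hg.loc_one' hT ha, hk.loc_one' hT ha, mul_one]
  have e2 : loc a (g * (k * a)) = 0 :=
    loc_eq_zero (by simp only [mul_assoc, hT.sq a ha, mul_zero])
  have e3 : loc a (g * a) = 0 :=
    loc_eq_zero (by simp only [mul_assoc, hT.sq a ha, mul_zero])
  rw [e1, e2, e3, add_zero, add_zero, lp]

/-- a third point of a line against anybody -/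
theorem lp_third_left {f h z : (AddMonoid.End M)} (hf : Nb T a f) (hh : Nb T a h)
    (hc : lp a h f * lp a h f = lp a h f + 1) :
    lp a (mv f h) z = lp a h f * lp a h z + (lp a h f + 1) * lp a f z := by
  obtain ⟨hadj', hsym, -⟩ := lp_cubic hT ha hh hf hc
  have hadj := hT.adj_symm hh.1 hf.1 hadj'
  have hfa := hT.adj_symm ha hf.1 hf.2
  have hha := hT.adj_symm ha hh.1 hh.2
  have e1 : loc a (f * h * z) = lp a f h * lp a h z := by rw [lp, lp, lp_chain hT ha hha]
  have e2 : loc a (h * f * z) = lp a h f * lp a f z := by rw [lp, lp, lp_chain hT ha hfa]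
  rw [lp, adj_expand hadj, add_mul, add_mul, add_mul, loc_add, loc_add, loc_add, e1, e2, hsym,
    ← lp, ← lp]
  simp only [add_mul, one_mul, add_assoc, add_comm, add_left_comm, two_self, two_cancel, add_zero,
    zero_add]

theorem lp_third_right {f h z : (AddMonoid.End M)} (hf : Nb T a f) (hh : Nb T a h)
    (hc : lp a h f * lp a h f = lp a h f + 1) :
    lp a z (mv f h) = lp a z h * (lp a h f + 1) + lp a z f * lp a h f := by
  obtain ⟨hadj', hsym, -⟩ := lp_cubic hT ha hh hf hc
  have hadj := hT.adj_symm hh.1 hf.1 hadj'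
  have hfa := hT.adj_symm ha hf.1 hf.2
  have hha := hT.adj_symm ha hh.1 hh.2
  have e1 : loc a (z * (f * h)) = lp a z f * lp a f h := by
    rw [lp, lp, ← mul_assoc, lp_chain hT ha hfa]
  have e2 : loc a (z * (h * f)) = lp a z h * lp a h f := by
    rw [lp, lp, ← mul_assoc, lp_chain hT ha hha]
  rw [lp, adj_expand hadj, mul_add, mul_add, mul_add, loc_add, loc_add, loc_add, e1, e2, hsym,
    ← lp, ← lp]
  simp only [mul_add, mul_one, add_assoc, add_comm, add_left_comm, two_self, two_cancel, add_zero,
    zero_add]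

end

end Cfsg.Agent.Spor.UniqueClass
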