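import Cfsg.Agent.Lib.Spor.UnitarySevenInvol

/-!
The unitary group in dimension five over the field with four elements: the involutions all of whose
conjugates give products of order at most three are the transvections, two non-commuting transvections
reach all others, and five commuting ones have product one.
-/

set_option autoImplicit false
set_option linter.unusedSectionVars false
set_option linter.unusedSimpArgs false

namespace Cfsg.Agent.Spor.UnitaryFive

open Matrix Cfsg.Agent.Small Cfsg.Agent.Small.Unitary Cfsg.Agent.Spor.UnitaryTrans Cfsg.Agent.Spor.UnitarySeven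

variable {F : Type} [Field F] [Fintype F] [DecidableEq F] [StarRing F] [CharP F 2]
  (hstar : ∀ x : F, star x = x ^ 2) (hF : Fintype.card F = 4)
include hstar hF

/-- prescribed values are taken by an isotropic vector unless the common kernel is totally isotropic -/
theorem iso_or {n k : ℕ} {v : Fin k → (Fin n → F)} (hv : LinearIndependent F v) (α : Fin k → F) :
    (∃ x, (∀ i, herm (v i) x = α i) ∧ herm x x = 0) ∨
      ∀ w ∈ LinearMap.ker (Φ v), ∀ w' ∈ LinearMap.ker (Φ v), herm w w' = 0 := by
  obtain ⟨x₀, hx₀⟩ := Φ_surjective hv α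
  rcases Classical.em (∃ x, (∀ i, herm (v i) x = α i) ∧ herm x x = 0) with hyes | hno
  · exact Or.inl hyes
  refine Or.inr ?_
  have hall : ∀ w ∈ LinearMap.ker (Φ v), herm (x₀ + w) (x₀ + w) = 1 := fun w hw =>
    (herm_self_cases hstar _).resolve_left fun h0 => hno ⟨x₀ + w, fun i => by
      rw [herm_add_right, ← Φ_apply v w, LinearMap.mem_ker.1 hw, Pi.zero_apply, add_zero, ← Φ_apply v x₀, hx₀],
      h0⟩
  have hW : ∀ w ∈ LinearMap.ker (Φ v), ∀ w' ∈ LinearMap.ker (Φ v), herm w w' + herm w' w = 0 := by
    intro w hw w' hw'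
    have h0 := hall 0 (zero_mem _)
    have h1 := hall w hw
    have h2 := hall w' hw'
    have h3 := hall (w + w') (add_mem hw hw')
    simp only [add_zero, herm_add_left, herm_add_right] at h0 h1 h2 h3
    linear_combination h3 - h1 - h2 + h0
  intro w hw w' hw'
  by_contra hne
  obtain ⟨c, hc⟩ : ∃ c : F, c + star c ≠ 0 := by
    by_contra! hall'
    have : ∀ c : F, c = 0 ∨ c = 1 := fun c =>
      fixed_cases hstar (by have := eq_neg_of_add_eq_zero_right (hall' c); rwa [CharTwo.neg_eq] at this)
    have h4 : Fintype.card F ≤ 2 := by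
      rw [← Finset.card_univ]
      exact le_trans (Finset.card_le_card (fun c _ => by
        rcases this c with rfl | rfl <;> simp : (Finset.univ : Finset F) ⊆ {0, 1})) Finset.card_le_two
    omega
  have := hW w hw ((c / herm w w') • w') (Submodule.smul_mem _ _ hw')
  rw [herm_smul_right, herm_smul_left, div_mul_cancel₀ _ hne, star_div₀, star_herm] at this
  have hne' : herm w' w ≠ 0 := by rw [← star_herm w w']; exact star_ne_zero.2 hne
  rw [div_mul_cancel₀ _ hne'] at this
  exact hc this

theorem exists_iso2 {k : ℕ} (hk : k ≤ 2) {v : Fin k → (Fin 5 → F)} (hv : LinearIndependent F v)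
    (α : Fin k → F) : ∃ x, (∀ i, herm (v i) x = α i) ∧ herm x x = 0 := by
  refine (iso_or hstar hF hv α).resolve_right fun hW => ?_
  have h1 := finrank_ker_Φ hv
  let b := Module.finBasis F (LinearMap.ker (Φ v))
  have hb := b.linearIndependent.map' (LinearMap.ker (Φ v)).subtype (Submodule.ker_subtype _)
  have h2 := isotropic_le hb fun i j => hW _ (b i).2 _ (b j).2
  omega

theorem exists_iso3 {v : Fin 3 → (Fin 5 → F)} (hv : LinearIndependent F v)
    (hij : ∃ i j, herm (v i) (v i) = 0 ∧ herm (v i) (v j) ≠ 0) (α : Fin 3 → F) :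
    ∃ x, (∀ i, herm (v i) x = α i) ∧ herm x x = 0 := by
  refine (iso_or hstar hF hv α).resolve_right fun hW => ?_
  obtain ⟨i, j, hii, hij⟩ := hij
  have h1 := finrank_ker_Φ hv
  let b := Module.finBasis F (LinearMap.ker (Φ v))
  have hb := b.linearIndependent.map' (LinearMap.ker (Φ v)).subtype (Submodule.ker_subtype _)
  have hker : ∀ (k : Fin 3) (x : LinearMap.ker (Φ v)), herm (v k) (x : Fin 5 → F) = 0 := fun k x => congrFun (LinearMap.mem_ker.1 x.2) k
  have hb' : LinearIndependent F (Fin.snoc (fun k => ((b k : LinearMap.ker (Φ v)) : Fin 5 → F)) (v i) :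
      Fin (_ + 1) → Fin 5 → F) := by
    refine linearIndependent_finSnoc.2 ⟨hb, fun hmem => hij ?_⟩
    have hle : Submodule.span F (Set.range fun k => ((b k : LinearMap.ker (Φ v)) : Fin 5 → F)) ≤
        LinearMap.ker (Φ v) := Submodule.span_le.2 (by rintro _ ⟨k, rfl⟩; exact (b k).2)
    have := hker j ⟨_, hle hmem⟩
    rw [← star_herm (v j) (v i), this, star_zero]
  have h2 := isotropic_le hb' fun k l => by
    refine Fin.lastCases ?_ (fun k => ?_) k <;> refine Fin.lastCases ?_ (fun l => ?_) l <;>
      simp only [Fin.snoc_last, Fin.snoc_castSucc]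
    · exact hii
    · exact hker i _
    · rw [← star_herm (v i), hker i _, star_zero]
    · exact hW _ (b k).2 _ (b l).2
  omega

/-- An involution all of whose conjugates give products of order at most three is a transvection. -/
theorem tv_of_three {σ : Cfsg.SU 5 F 2} (hσ : σ * σ = 1) (hne : σ ≠ 1)
    (h : ∀ g, (σ * (g * σ * g⁻¹)) ^ 2 = 1 ∨ (σ * (g * σ * g⁻¹)) ^ 3 = 1) :
    ∃ (u : Fin 5 → F) (hu : herm u u = 0), u ≠ 0 ∧ σ = tv hstar u hu := by
  obtain ⟨x, u, hu, hxu, hσu, hσ1, hx1, hfix1⟩ := exists_split hstar hF hσ hne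
  have hu0 : u ≠ 0 := fun e => by simp [e, herm_zero_right] at hxu
  have back : ∀ {v : Fin 5 → F} (hv : herm v v = 0) {τ τ' : Cfsg.SU 5 F 2},
      tv hstar v hv * τ = τ' → τ = tv hstar v hv * τ' := fun hv τ τ' e => by
    rw [← e, ← mul_assoc, tv_sq, one_mul]
  by_cases h1 : tv hstar u hu * σ = 1
  · exact ⟨u, hu, hu0, by rw [back hu h1, mul_one]⟩
  exfalso
  obtain ⟨x', w, hw, hxw', hσw, hσ2, hx2, hfix2⟩ := exists_split hstar hF hσ1 h1
  have hxw : herm x w = 0 := (hfix2 x hx1).1
  have huw : herm u w = 0 := (hfix2 u (hfix1 u hσu).2).1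
  have hsw : ∀ {a b : Fin 5 → F}, herm a b = 0 → herm b a = 0 := fun {a b} e => by
    rw [← star_herm a b, e, star_zero]
  have hρ1 : tv hstar w hw * (tv hstar u hu * σ) = 1 := by
    by_contra h2
    obtain ⟨x'', f, hf, hxf'', hσf, hσ3, hx3, hfix3⟩ := exists_split hstar hF hσ2 h2
    have huf := (hfix3 u (hfix2 u (hfix1 u hσu).2).2).1
    have hwf := (hfix3 w (hfix2 w hσw).2).1
    have hxf := (hfix3 x (hfix2 x hx1).2).1
    have hxf' := (hfix3 x' hx2).1
    have hi : LinearIndependent F ![u, w, f] := by
      refine indep_of_dual _ ![x, x', x''] (fun i => ?_) (fun j i hji => ?_)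
      · fin_cases i <;> simp [hxu, hxw', hxf'']
      · fin_cases i <;> fin_cases j <;> first | (exact absurd hji (by decide)) | simp [hxw, hxf, hxf']
    have := isotropic_le hi fun i j => by
      fin_cases i <;> fin_cases j <;> simp [hu, hw, hf, huw, huf, hwf, hsw huw, hsw huf, hsw hwf]
    omega
  have hσeq : σ = tv hstar u hu * tv hstar w hw := by
    rw [back hu (back hw hρ1), mul_one]
  have hi2 : LinearIndependent F ![u, w] := by
    refine indep_of_dual _ ![x, x'] (fun i => ?_) (fun j i hji => ?_)
    · fin_cases i <;> simp [hxu, hxw']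
    · fin_cases i <;> fin_cases j <;> first | (exact absurd hji (by decide)) | simp [*]
  obtain ⟨c, hcv, hc⟩ := exists_iso2 hstar hF le_rfl hi2 ![1, 1]
  have huc : herm u c = 1 := hcv 0
  have hwc : herm w c = 1 := hcv 1
  have hcu : herm c u = 1 := by rw [← star_herm u c, huc, star_one]
  have hcw : herm c w = 1 := by rw [← star_herm w c, hwc, star_one]
  set e := u + w with he
  have hee : herm e e = 0 := by simp [he, herm_add_left, herm_add_right, hu, hw, huw, hsw huw]
  have hce : herm c e = 0 := by rw [he, herm_add_right, hcu, hcw, CharTwo.add_self_eq_zero]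
  have hec : herm e c = 0 := hsw hce
  have hxe : herm x e = 1 := by rw [he, herm_add_right, hxu, hxw, add_zero]
  have hue : herm u e = 0 := by rw [he, herm_add_right, hu, huw, add_zero]
  have hi3 : LinearIndependent F ![c, e] := by
    refine indep_of_dual _ ![u, x] (fun i => ?_) (fun j i hji => ?_)
    · fin_cases i <;> simp [huc, hxe]
    · fin_cases i <;> fin_cases j <;> first | (exact absurd hji (by decide)) | simp [hue]
  obtain ⟨m, hmv, hm⟩ := exists_iso2 hstar hF le_rfl hi3 ![0, 1]
  have hcm : herm c m = 0 := hmv 0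
  have hem : herm e m = 1 := hmv 1
  have hmc : herm m c = 0 := hsw hcm
  have hme : herm m e = 1 := by rw [← star_herm e m, hem, star_one]
  have hz1 : herm (u + c) (u + c) = 0 := by
    simp [herm_add_left, herm_add_right, hu, hc, huc, hcu, CharTwo.add_self_eq_zero]
  have hz2 : herm (e + c + m) (e + c + m) = 0 := by
    simp [herm_add_left, herm_add_right, hee, hc, hm, hec, hce, hem, hme, hcm, hmc, CharTwo.add_self_eq_zero]
  have hz3 : herm (m + e) (m + e) = 0 := by
    simp [herm_add_left, herm_add_right, hee, hm, hem, hme, CharTwo.add_self_eq_zero]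
  set g := tv hstar _ hz3 * (tv hstar _ hz2 * tv hstar _ hz1) with hg
  have t2 := CharTwo.two_eq_zero (R := F)
  have t1u : act (tv hstar _ hz1) u = c := by
    rw [act_tv, herm_add_left, hu, hcu, zero_add, one_smul]
    funext i
    simp only [Pi.add_apply]
    linear_combination (u i) * t2
  have t1w : act (tv hstar _ hz1) w = e + c := by
    rw [act_tv, herm_add_left, huw, hcw, zero_add, one_smul, he]
    funext i
    simp only [Pi.add_apply]
    ring
  have t2c : act (tv hstar _ hz2) c = c := by
    rw [act_tv, herm_add_left, herm_add_left, hec, hc, hmc]; simp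
  have t2e : act (tv hstar _ hz2) (e + c) = m := by
    rw [act_tv]
    simp only [herm_add_left, herm_add_right, hee, hec, hce, hc, hme, hmc, add_zero, zero_add, one_smul]
    funext i
    simp only [Pi.add_apply]
    linear_combination (e i + c i) * t2
  have t3c : act (tv hstar _ hz3) c = c := by
    rw [act_tv, herm_add_left, hmc, hec]; simp
  have t3m : act (tv hstar _ hz3) m = e := by
    rw [act_tv, herm_add_left, hm, hem, zero_add, one_smul]
    funext i
    simp only [Pi.add_apply]
    linear_combination (m i) * t2
  have hgu : act g u = c := by rw [hg, act_mul, act_mul, t1u, t2c, t3c]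
  have hgw : act g w = e := by rw [hg, act_mul, act_mul, t1w, t2e, t3m]
  have hconj : g * σ * g⁻¹ = tv hstar c hc * tv hstar e hee := by
    have e1 : g * tv hstar u hu * g⁻¹ = tv hstar c hc := by rw [tv_conj]; exact tv_congr hstar hgu _ _
    have e2 : g * tv hstar w hw * g⁻¹ = tv hstar e hee := by rw [tv_conj]; exact tv_congr hstar hgw _ _
    rw [hσeq, ← e1, ← e2]; group
  set M := σ * (g * σ * g⁻¹) with hM
  have hMu : act M u = u + c + e := by
    rw [hM, hconj, hσeq]
    simp only [act_mul, act_tv, herm_add_left, herm_add_right, herm_smul_right, he, hu, hw, huw, hsw huw,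
      hcu, huc, hwc, hcw, one_smul, zero_smul, add_zero, zero_add, mul_one, mul_zero]
    funext i
    simp only [Pi.add_apply, Pi.smul_apply, smul_eq_mul]
    ring
  have hMc : act M c = c + e := by
    rw [hM, hconj, hσeq]
    simp only [act_mul, act_tv, herm_add_left, herm_add_right, herm_smul_right, he, hc, huw, hsw huw,
      huc, hwc, hcu, hcw, CharTwo.add_self_eq_zero, one_smul, zero_smul, add_zero, zero_add, mul_one, mul_zero]
    funext i
    simp only [Pi.add_apply, Pi.smul_apply, smul_eq_mul]
    ring
  have hMe : act M e = e := by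
    rw [hM, hconj, hσeq]
    simp only [act_mul, act_tv, hee, hce, hue, zero_smul, add_zero]
    rw [show herm w e = 0 by rw [he, herm_add_right, hw, hsw huw, add_zero], zero_smul, add_zero, hue,
      zero_smul, add_zero]
  have hMu2 : act M (u + c + e) = u + e := by
    rw [act_add, act_add, hMu, hMc, hMe]
    funext i
    simp only [Pi.add_apply]
    linear_combination (c i + e i) * t2
  rcases h g with h2 | h3
  · have := congrArg (fun q => act q u) h2
    simp only [← hM, pow_two, act_mul, act_one, hMu, hMu2, add_eq_left] at this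
    rw [this, herm_zero_right] at hxe
    exact zero_ne_one hxe
  · have := congrArg (fun q => act q u) h3
    simp only [← hM, pow_succ, pow_zero, one_mul, act_mul, act_one, hMu, hMu2, act_add M u e, hMe] at this
    have hc0 : c = 0 := by
      funext i
      have h5 := congrFun this i
      simp only [Pi.add_apply] at h5
      show c i = 0
      linear_combination h5 - (e i) * t2
    rw [hc0, herm_zero_right] at huc
    exact zero_ne_one huc

/-- Two non-orthogonal isotropic vectors reach every transvection. -/
theorem gen_pair {p r s : Fin 5 → F} (hp : herm p p = 0) (hr : herm r r = 0) (hs : herm s s = 0)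
    (hs0 : s ≠ 0) (hpr : herm p r ≠ 0) :
    ∃ (a b : Fin 5 → F) (ha : herm a a = 0) (hb : herm b b = 0), a ≠ 0 ∧ b ≠ 0 ∧
      (herm a p = 0 ∨ herm a r = 0) ∧ (herm b p = 0 ∨ herm b r = 0) ∧
      tv hstar s hs = tv hstar a ha * tv hstar b hb * tv hstar a ha := by
  have hinv : ∀ (v : Fin 5 → F) (hv : herm v v = 0), (tv hstar v hv)⁻¹ = tv hstar v hv :=
    fun v hv => inv_eq_of_mul_eq_one_right (tv_sq hstar v hv)
  by_cases hperp : herm s p = 0 ∨ herm s r = 0
  · exact ⟨s, s, hs, hs, hs0, hs0, hperp, hperp, by rw [tv_sq, one_mul]⟩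
  push Not at hperp
  by_cases hi : LinearIndependent F ![p, r, s]
  · obtain ⟨a, hav, ha⟩ := exists_iso3 hstar hF hi ⟨0, 1, hp, hpr⟩ ![0, herm r s, 1]
    have hpa : herm p a = 0 := hav 0
    have hra : herm r a = herm r s := hav 1
    have hsa : herm s a = 1 := hav 2
    have has : herm a s = 1 := by rw [← star_herm s a, hsa, star_one]
    have hb : herm (a + s) (a + s) = 0 := by
      simp [herm_add_left, herm_add_right, ha, hs, has, hsa, CharTwo.add_self_eq_zero]
    refine ⟨a, a + s, ha, hb, fun e => by simp [e, herm_zero_right] at hsa,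
      fun e => ?_, Or.inl ?_, Or.inr ?_, ?_⟩
    · have := congrArg (herm s) e
      simp [herm_add_right, hsa, hs, herm_zero_right] at this
    · rw [← star_herm p a, hpa, star_zero]
    · rw [← star_herm r (a + s), herm_add_right, hra, CharTwo.add_self_eq_zero, star_zero]
    · have := tv_conj hstar (tv hstar a ha) (a + s) hb
      rw [hinv] at this
      rw [this]
      refine tv_congr hstar ?_ _ _
      rw [act_tv, herm_add_right, ha, has, zero_add, one_smul]
      funext i
      simp only [Pi.add_apply]
      linear_combination -(a i) * CharTwo.two_eq_zero (R := F)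
  · have hi2 : LinearIndependent F ![p, r] := by
      refine indep_of_dual _ ![r, p] (fun i => ?_) (fun j i hji => ?_)
      · fin_cases i
        · simpa [← star_herm p r] using hpr
        · simpa using hpr
      · fin_cases i <;> fin_cases j <;> first | (exact absurd hji (by decide)) | simp [*]
    have hspan : s ∈ Submodule.span F (Set.range ![p, r]) := by
      by_contra hns
      refine hi ?_
      have h3 : LinearIndependent F (Fin.snoc ![p, r] s : Fin 3 → Fin 5 → F) :=
        linearIndependent_finSnoc.2 ⟨hi2, hns⟩
      convert h3 using 1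
      funext i
      fin_cases i <;> rfl
    obtain ⟨l, hl⟩ := Submodule.mem_span_range_iff_exists_fun F |>.1 hspan
    rw [Fin.sum_univ_two] at hl
    simp only [Matrix.cons_val_zero, Matrix.cons_val_one, Matrix.head_cons] at hl
    set k := herm p r with hk
    have hk1 : star k * k = 1 := star_mul_self_eq_one hstar hF hpr
    have hsp : herm s p = star (l 1) * star k := by
      rw [← hl, herm_add_left, herm_smul_left, herm_smul_left, hp, ← star_herm p r, ← hk, mul_zero, zero_add]
    have hsr : herm s r = star (l 0) * k := by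
      rw [← hl, herm_add_left, herm_smul_left, herm_smul_left, hr, mul_zero, add_zero]
    have hl0 : l 0 ≠ 0 := fun e => hperp.2 (by rw [hsr, e, star_zero, zero_mul])
    have hl1 : l 1 ≠ 0 := fun e => hperp.1 (by rw [hsp, e, star_zero, zero_mul])
    have htr : l 0 * star (l 1) * star k = 1 := by
      have h0 : star (l 0) * l 1 * k + star (l 1) * l 0 * star k = 0 := by
        have := hs
        rw [← hl] at this
        simp only [herm_add_left, herm_add_right, herm_smul_left, herm_smul_right, hp, hr,
          ← star_herm p r, ← hk, mul_zero, add_zero, zero_add] at this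
        linear_combination this
      refine (fixed_cases hstar ?_).resolve_left (by simp [hl0, hl1, hpr])
      rw [star_mul', star_mul', star_star, star_star]
      linear_combination h0 - (star (l 1) * l 0 * star k) * CharTwo.two_eq_zero (R := F)
    have hl10 : l 0 = l 1 * k := by
      have h11 : star (l 1) * l 1 = 1 := star_mul_self_eq_one hstar hF hl1
      linear_combination (l 1 * k) * htr - (l 0 * (star (l 1) * l 1)) * hk1 - (l 0) * h11
    refine ⟨p, r, hp, hr, fun e => hpr (by simp [hk, e, herm_zero_left]),
      fun e => hpr (by simp [hk, e, herm_zero_right]), Or.inl hp, Or.inr hr, ?_⟩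
    have h1 := tv_conj hstar (tv hstar p hp) r hr
    rw [hinv] at h1
    rw [h1]
    have hvec : s = l 1 • act (tv hstar p hp) r := by
      rw [act_tv, ← hl, ← hk, smul_add, smul_smul, add_comm]
      congr 2
    rw [tv_congr hstar hvec hs (by rw [← hvec]; exact hs), tv_smul hstar hF hl1]

end Cfsg.Agent.Spor.UnitaryFive
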