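import Cfsg.Agent.Lib.Spor.UnitaryFiveTorus

/-!
Actions of the unitary group in dimension five on a group of exponent two in which the displacement
of a transvection is fixed by the transvections commuting with it: the frame elements have no fixed
points and displacements are recognised by their centraliser.
-/

set_option autoImplicit false
set_option linter.unusedSectionVars false
set_option linter.unusedSimpArgs false

namespace Cfsg.Agent.Spor.UnitaryFive

open Matrix Cfsg.Agent.Small Cfsg.Agent.Small.Unitary Cfsg.Agent.Spor.UnitaryTrans Cfsg.Agent.Spor.UnitarySeven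

variable {F : Type} [Field F] [Fintype F] [DecidableEq F] [StarRing F] [CharP F 2]
variable {A : Type*} [AddCommGroup A]

/-- The hypotheses on the action. -/
structure Act {om : F} (hf : Four om) (ρ : Cfsg.SU 5 F 2 →* AddMonoid.End A) : Prop where
  two : ∀ v : A, v + v = 0
  comm : ∀ a b (ha : herm a a = 0) (hb : herm b b = 0), a ≠ 0 → b ≠ 0 → herm a b = 0 → ∀ v,
    ρ (tv hf.hstar b hb) (ρ (tv hf.hstar a ha) v + v) = ρ (tv hf.hstar a ha) v + v
  sep : ∀ a b (ha : herm a a = 0) (hb : herm b b = 0), herm a b ≠ 0 → ∀ v,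
    (∀ z (hz : herm z z = 0), z ≠ 0 → (herm z a = 0 ∨ herm z b = 0) → ρ (tv hf.hstar z hz) v = v) → v = 0

variable {om : F} {hf : Four om} {ρ : Cfsg.SU 5 F 2 →* AddMonoid.End A}

theorem app_mul (s t : Cfsg.SU 5 F 2) (v : A) : ρ (s * t) v = ρ s (ρ t v) := by
  rw [map_mul]; rfl

theorem app_one (v : A) : ρ 1 v = v := by rw [map_one]; rfl

theorem app_comm {s t : Cfsg.SU 5 F 2} (h : Commute s t) (v : A) : ρ s (ρ t v) = ρ t (ρ s v) := by
  rw [← app_mul, ← app_mul, h.eq]

/-- the moved part -/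
def Qp (ρ : Cfsg.SU 5 F 2 →* AddMonoid.End A) (s : Cfsg.SU 5 F 2) (v : A) : A := ρ s (ρ s v) + ρ s v

/-- the fixed part -/
def Pp (ρ : Cfsg.SU 5 F 2 →* AddMonoid.End A) (s : Cfsg.SU 5 F 2) (v : A) : A := v + Qp ρ s v

variable (h : Act hf ρ)
include h

theorem Act.PQ (s : Cfsg.SU 5 F 2) (v : A) : Pp ρ s v + Qp ρ s v = v := by
  rw [Pp, add_assoc, h.two, add_zero]

theorem Act.fix_of_sum {s : Cfsg.SU 5 F 2} {v : A} (e : ρ s v + v = 0) : ρ s v = v := by
  have := congrArg (· + v) e
  simpa [add_assoc, h.two v] using this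

omit h

theorem cube_app {s : Cfsg.SU 5 F 2} (hs : s ^ 3 = 1) (v : A) : ρ s (ρ s (ρ s v)) = v := by
  rw [← app_mul, ← app_mul, show s * s * s = s ^ 3 by rw [pow_succ, pow_two], hs, app_one]

theorem Pp_fix {s : Cfsg.SU 5 F 2} (hs : s ^ 3 = 1) (v : A) : ρ s (Pp ρ s v) = Pp ρ s v := by
  simp only [Pp, Qp, map_add, cube_app hs]
  abel

theorem Qp_comm {s t : Cfsg.SU 5 F 2} (hc : Commute s t) (v : A) : ρ s (Qp ρ t v) = Qp ρ t (ρ s v) := by
  simp only [Qp, map_add, app_comm hc]

theorem Pp_comm {s t : Cfsg.SU 5 F 2} (hc : Commute s t) (v : A) : ρ s (Pp ρ t v) = Pp ρ t (ρ s v) := by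
  simp only [Pp, map_add, Qp_comm hc]

theorem Qp_fixed {s t : Cfsg.SU 5 F 2} (hc : Commute s t) {v : A} (hv : ρ s v = v) :
    ρ s (Qp ρ t v) = Qp ρ t v := by rw [Qp_comm hc, hv]

theorem Pp_fixed {s t : Cfsg.SU 5 F 2} (hc : Commute s t) {v : A} (hv : ρ s v = v) :
    ρ s (Pp ρ t v) = Pp ρ t v := by rw [Pp_comm hc, hv]

include h

theorem Act.Qp_zero {s : Cfsg.SU 5 F 2} {v : A} (hv : ρ s v = v) : Qp ρ s v = 0 := by
  rw [Qp, hv, hv, h.two]

theorem Act.Pp_self {s : Cfsg.SU 5 F 2} {v : A} (hv : ρ s v = v) : Pp ρ s v = v := by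
  rw [Pp, h.Qp_zero hv, add_zero]

theorem Act.Qp_Qp {s : Cfsg.SU 5 F 2} (hs : s ^ 3 = 1) (v : A) : Qp ρ s (Qp ρ s v) = Qp ρ s v := by
  simp only [Qp, map_add, cube_app hs]
  calc ρ s v + v + (v + ρ s (ρ s v)) = (v + v) + (ρ s (ρ s v) + ρ s v) := by abel
    _ = ρ s (ρ s v) + ρ s v := by rw [h.two, zero_add]

/-- a moved part is fixed by what commutes with the two transvections -/
theorem Act.Qp_tv {a b : Fin 5} (hab : a ≠ b) {z : Fin 5 → F} (hz : herm z z = 0) (hz0 : z ≠ 0)
    (h1 : herm z (sv a b 1) = 0) (h2 : herm z (sv a b om) = 0) (v : A) :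
    ρ (tv hf.hstar z hz) (Qp ρ (X hf a b) v) = Qp ρ (X hf a b) v := by
  have e : Qp ρ (X hf a b) v = ρ (X hf a b) (ρ (X hf a b) v) + ρ (X hf a b) v := rfl
  rw [e]
  generalize ρ (X hf a b) v = w
  rw [X_eq_tv hf hab, app_mul]
  set t1 := tv hf.hstar _ (sv_iso hf hab one_ne_zero)
  set t2 := tv hf.hstar _ (sv_iso hf hab hf.om_ne_zero)
  have ne : ∀ l : F, sv a b l ≠ 0 := fun l h0 => by
    have := congrFun h0 a
    rw [sv_apply_left hab] at this
    exact one_ne_zero this
  have hs : ∀ {p r : Fin 5 → F}, herm p r = 0 → herm r p = 0 := fun {p r} e => by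
    rw [← star_herm p r, e, star_zero]
  rw [show ρ t1 (ρ t2 w) + w = (ρ t1 (ρ t2 w) + ρ t2 w) + (ρ t2 w + w) by
    calc ρ t1 (ρ t2 w) + w = ρ t1 (ρ t2 w) + (ρ t2 w + ρ t2 w) + w := by rw [h.two, add_zero]
      _ = _ := by abel]
  rw [map_add (ρ (tv hf.hstar z hz)), h.comm _ z _ hz (ne 1) hz0 (hs h1) (ρ t2 w),
    h.comm _ z _ hz (ne om) hz0 (hs h2) w]

theorem Act.Qp_X {a b c d : Fin 5} (hn : [a, b, c, d].Nodup) (v : A) :
    ρ (X hf c d) (Qp ρ (X hf a b) v) = Qp ρ (X hf a b) v := by
  simp only [List.nodup_cons, List.mem_cons, List.mem_singleton, not_or, List.not_mem_nil, not_false_iff,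
    and_true, List.nodup_nil] at hn
  obtain ⟨⟨hab, hac, had⟩, ⟨hbc, hbd⟩, hcd⟩ := hn
  have ne : ∀ l : F, sv c d l ≠ 0 := fun l h0 => by
    have := congrFun h0 c
    rw [sv_apply_left hcd] at this
    exact one_ne_zero this
  have hz : ∀ l m : F, herm (sv c d l) (sv a b m) = 0 := fun l m => by
    rw [herm_sv_right, sv_apply hac had, sv_apply hbc hbd, star_zero, zero_mul, add_zero]
  rw [X_eq_tv hf hcd, app_mul, h.Qp_tv hab _ (ne om) (hz _ _) (hz _ _),
    h.Qp_tv hab _ (ne 1) (hz _ _) (hz _ _)]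

theorem Act.fix_sv {v : A} (hv : ∀ a b, ρ (X hf a b) v = v) {a b : Fin 5} (hab : a ≠ b) {l : F}
    (hl : l ≠ 0) : ρ (tv hf.hstar (sv a b l) (sv_iso hf hab hl)) v = v := by
  have main : ∀ a b : Fin 5, ∀ hab : a ≠ b, ρ (tv hf.hstar _ (sv_iso hf hab one_ne_zero)) v = v ∧
      ρ (tv hf.hstar _ (sv_iso hf hab hf.om_ne_zero)) v = v := by
    intro a b hab
    set t1 := tv hf.hstar _ (sv_iso hf hab one_ne_zero)
    set t2 := tv hf.hstar _ (sv_iso hf hab hf.om_ne_zero)
    have ne : ∀ l : F, sv a b l ≠ 0 := fun l h0 => by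
      have := congrFun h0 a
      rw [sv_apply_left hab] at this
      exact one_ne_zero this
    have e12 : ρ t2 v = ρ t1 v := by
      have h1 := hv a b
      rw [X_eq_tv hf hab, app_mul] at h1
      have := congrArg (ρ t1) h1
      rwa [← app_mul, tv_sq, app_one] at this
    have hd : ρ t1 v + v = 0 := by
      refine h.sep _ _ (sv_iso hf hab one_ne_zero) (sv_iso hf hab hf.om_ne_zero) ?_ _
        fun z hz hz0 hor => ?_
      · rw [herm_sv_right, sv_apply_left hab, sv_apply_right hab, star_one, one_mul]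
        intro h0
        refine hf.om_ne_one ?_
        linear_combination h0 - CharTwo.two_eq_zero (R := F)
      · rcases hor with h0 | h0
        · exact h.comm _ z (sv_iso hf hab one_ne_zero) hz (ne 1) hz0
            (by rw [← star_herm z, h0, star_zero]) v
        · have := h.comm _ z (sv_iso hf hab hf.om_ne_zero) hz (ne om) hz0
            (by rw [← star_herm z, h0, star_zero]) v
          rwa [show ρ (tv hf.hstar _ (sv_iso hf hab hf.om_ne_zero)) v = ρ t1 v from e12] at this
    exact ⟨h.fix_of_sum hd, e12.trans (h.fix_of_sum hd)⟩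
  rcases hf.mem l with rfl | rfl | rfl | rfl
  · exact absurd rfl hl
  · exact (main a b hab).1
  · exact (main a b hab).2
  · have e : sv a b (om ^ 2) = om ^ 2 • sv b a om := by
      funext i
      rcases eq_or_ne i a with rfl | hia
      · simp only [Pi.smul_apply, smul_eq_mul, sv_apply_left hab, sv_apply_right hab.symm]
        linear_combination -hf.cube
      rcases eq_or_ne i b with rfl | hib
      · simp only [Pi.smul_apply, smul_eq_mul, sv_apply_left hab.symm, sv_apply_right hab]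
        ring
      · simp only [Pi.smul_apply, smul_eq_mul, sv_apply hia hib, sv_apply hib hia, mul_zero]
    rw [tv_congr hf.hstar e _ (by rw [← e]; exact sv_iso hf hab hl),
      tv_smul hf.hstar hf.card (pow_ne_zero 2 hf.om_ne_zero) _ (sv_iso hf hab.symm hf.om_ne_zero)]
    exact (main b a hab.symm).2

theorem Act.fix_two {v : A} (hv : ∀ a b, ρ (X hf a b) v = v) {a b : Fin 5} (hab : a ≠ b)
    {u : Fin 5 → F} (hu : herm u u = 0) (ha : u a ≠ 0) (hb : u b ≠ 0)
    (hz : ∀ i, i ≠ a → i ≠ b → u i = 0) : ρ (tv hf.hstar u hu) v = v := by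
  have e : u = u a • sv a b (u b / u a) := by
    funext i
    rcases eq_or_ne i a with rfl | hia
    · simp [sv_apply_left hab]
    rcases eq_or_ne i b with rfl | hib
    · simp [sv_apply_right hab, mul_div_cancel₀ _ ha]
    · simp [sv_apply hia hib, hz i hia hib]
  rw [tv_congr hf.hstar e hu (by rw [← e]; exact hu),
    tv_smul hf.hstar hf.card ha _ (sv_iso hf hab (div_ne_zero hb ha))]
  exact h.fix_sv hv hab (div_ne_zero hb ha)

theorem Act.moved_dg {v : A} {k : Cfsg.SU 5 F 2} (hk : ρ k v = v) {z z' : Fin 5 → F}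
    (hz : herm z z = 0) (hz' : herm z' z' = 0) (e : act k z = z') :
    ρ k (ρ (tv hf.hstar z hz) v + v) = ρ (tv hf.hstar z' hz') v + v := by
  rw [map_add, hk, show tv hf.hstar z' hz' = k * tv hf.hstar z hz * k⁻¹ by
    rw [tv_conj]; exact tv_congr hf.hstar e.symm _ _]
  rw [app_mul, app_mul]
  have : ρ k⁻¹ v = v := by
    conv_lhs => rw [← hk]
    rw [← app_mul, inv_mul_cancel, app_one]
  rw [this]

/-- the sum over a line -/
theorem Act.line_sum {v : A} (hv : ∀ a b, ρ (X hf a b) v = v) {u : Fin 5 → F} (hu : herm u u = 0)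
    {a b c d l : Fin 5} (hn : [a, b, c, d, l].Nodup) (hl : u l = 0) (hne : ∀ i, i ≠ l → u i ≠ 0) :
    Pp ρ (X hf c l * X hf d l) (ρ (tv hf.hstar u hu) v + v) = 0 ∧
      ρ (X hf c l * X hf d l) (ρ (tv hf.hstar u hu) v + v) =
        ρ (X hf c a * X hf d b) (ρ (X hf c a * X hf d b) (ρ (tv hf.hstar u hu) v + v)) := by
  have hcov : ∀ i, i = a ∨ i = b ∨ i = c ∨ i = d ∨ i = l := by
    intro i
    have : [a, b, c, d, l].toFinset = Finset.univ := Finset.eq_univ_of_card _ (by
      rw [List.toFinset_card_of_nodup hn]; rfl)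
    have := Finset.ext_iff.1 this i
    simpa using this
  simp only [List.nodup_cons, List.mem_cons, List.mem_singleton, not_or, List.not_mem_nil, not_false_iff,
    and_true, List.nodup_nil] at hn
  obtain ⟨⟨hab, hac, had, hal⟩, ⟨hbc, hbd, hbl⟩, ⟨hcd, hcl⟩, hdl⟩ := hn
  set p : Fin 5 → F := Pi.single a (u a) + Pi.single b (u b) with hp
  set q : Fin 5 → F := Pi.single c (u c) + Pi.single d (u d) with hq
  have epq : u = p + q := by
    funext i
    rcases hcov i with rfl | rfl | rfl | rfl | rfl <;>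
      simp [hp, hq, hab, hac, had, hal, hbc, hbd, hbl, hcd, hcl, hdl, Ne.symm hab, Ne.symm hac,
        Ne.symm had, Ne.symm hal, Ne.symm hbc, Ne.symm hbd, Ne.symm hbl, Ne.symm hcd, Ne.symm hcl,
        Ne.symm hdl, hl]
  have hpp : herm p p = 0 := by
    rw [hp, herm_add_left, herm_single_left, herm_single_left]
    simp [hab, Ne.symm hab, hf.norm (hne a hal), hf.norm (hne b hbl), CharTwo.add_self_eq_zero]
  have hqq : herm q q = 0 := by
    rw [hq, herm_add_left, herm_single_left, herm_single_left]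
    simp [hcd, Ne.symm hcd, hf.norm (hne c hcl), hf.norm (hne d hdl), CharTwo.add_self_eq_zero]
  have hpq : herm p q = 0 := by
    rw [hp, hq, herm_add_left, herm_single_left, herm_single_left]
    simp [hac, had, hbc, hbd, Ne.symm hac, Ne.symm had, Ne.symm hbc, Ne.symm hbd]
  have hqp : herm q p = 0 := by rw [← star_herm p q, hpq, star_zero]
  have hiso : ∀ s : F, herm (p + s • q) (p + s • q) = 0 := fun s => by
    simp [herm_add_left, herm_add_right, herm_smul_left, herm_smul_right, hpp, hqq, hpq, hqp]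
  set k := X hf c l * X hf d l with hk
  set k' := X hf c a * X hf d b with hk'
  have hkv : ρ k v = v := by rw [hk, app_mul, hv, hv]
  have hk'v : ρ k' v = v := by rw [hk', app_mul, hv, hv]
  have hact : ∀ (a' b' : Fin 5) (x : Fin 5 → F) (i : Fin 5),
      act (X hf a' b') x i = ee om (xk a' b' i) * x i :=
    fun a' b' x i => act_dg hf (sum_xk a' b') x i
  have ek : ∀ s : F, act k (p + s • q) = p + (om * s) • q := fun s => by
    funext i
    rw [hk, act_mul, hact, hact]
    rcases hcov i with rfl | rfl | rfl | rfl | rfl <;>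
      simp [hp, hq, xk, ee, hab, hac, had, hal, hbc, hbd, hbl, hcd, hcl, hdl, Ne.symm hab, Ne.symm hac,
        Ne.symm had, Ne.symm hal, Ne.symm hbc, Ne.symm hbd, Ne.symm hbl, Ne.symm hcd, Ne.symm hcl,
        Ne.symm hdl] <;> ring1
  have ek' : act k' (act k' u) = om • (p + om • q) := by
    funext i
    rw [hk', act_mul, hact, hact, act_mul, hact, hact, epq]
    have h3 := hf.cube
    rcases hcov i with rfl | rfl | rfl | rfl | rfl <;>
      simp [hp, hq, xk, ee, hab, hac, had, hal, hbc, hbd, hbl, hcd, hcl, hdl, Ne.symm hab, Ne.symm hac,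
        Ne.symm had, Ne.symm hal, Ne.symm hbc, Ne.symm hbd, Ne.symm hbl, Ne.symm hcd, Ne.symm hcl,
        Ne.symm hdl] <;>
      first
        | ring1
        | linear_combination (om * u i) * h3
        | linear_combination (-(om * u i)) * h3
  set W := fun (s : F) => ρ (tv hf.hstar _ (hiso s)) v + v with hW
  have hu1 : u = p + (1 : F) • q := by rw [one_smul]; exact epq
  have hW1 : ρ (tv hf.hstar u hu) v + v = W 1 := by rw [hW]; simp only [tv_congr hf.hstar hu1 hu (hiso 1)]
  have hmove : ∀ s, ρ k (W s) = W (om * s) := fun s => h.moved_dg hkv _ _ (ek s)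
  rw [hW1]
  have hmove1 : ρ k (W 1) = W om := by rw [hmove, mul_one]
  have hmove2 : ρ k (W om) = W (om ^ 2) := by rw [hmove, pow_two]
  refine ⟨?_, ?_⟩
  · rw [Pp, Qp, hmove1, hmove2]
    have hpt : ρ (tv hf.hstar p hpp) v = v :=
      h.fix_two hv hab hpp (by simp [hp, hab, hne a hal]) (by simp [hp, Ne.symm hab, hne b hbl])
        (fun i hia hib => by simp [hp, hia, hib])
    have hqt : ρ (tv hf.hstar q hqq) v = v :=
      h.fix_two hv hcd hqq (by simp [hq, hcd, hne c hcl]) (by simp [hq, Ne.symm hcd, hne d hdl])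
        (fun i hia hib => by simp [hq, hia, hib])
    have h11 : herm (p + q) (p + q) = 0 := epq ▸ hu
    have hline := line hf hpp hqq hpq h11 (hiso om) (hiso (om ^ 2))
    have hsum := congrArg (fun s => ρ s v) hline
    simp only [app_mul, app_one] at hsum
    rw [tv_congr hf.hstar (show p + q = p + (1 : F) • q by rw [one_smul]) h11 (hiso 1)] at hsum
    set T3 := tv hf.hstar _ (hiso 1)
    set T4 := tv hf.hstar _ (hiso om)
    set T5 := tv hf.hstar _ (hiso (om ^ 2))
    have hTT : ρ (tv hf.hstar p hpp) (ρ (tv hf.hstar q hqq) v) = v := by rw [hqt, hpt]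
    have hinj : ρ T3 (ρ T4 (ρ T5 v)) = v := by
      have e1 := congrArg (ρ (tv hf.hstar q hqq)) (congrArg (ρ (tv hf.hstar p hpp)) hsum)
      rw [hpt, hqt] at e1
      rwa [← app_mul (tv hf.hstar p hpp), tv_sq, app_one, ← app_mul, tv_sq, app_one] at e1
    have hzero : ∀ s : F, p + s • q ≠ 0 := fun s h0 => by
      have := congrFun h0 a
      simp [hp, hq, hab, hac, had, hne a hal] at this
    have hperp : ∀ s s' : F, herm (p + s • q) (p + s' • q) = 0 := fun s s' => by
      simp [herm_add_left, herm_add_right, herm_smul_left, herm_smul_right, hpp, hqq, hpq, hqp]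
    have hfx : ∀ s s', ρ (tv hf.hstar _ (hiso s)) (W s') = W s' := fun s s' =>
      h.comm _ _ (hiso s') (hiso s) (hzero s') (hzero s) (hperp s' s) v
    have hev : ∀ s, ρ (tv hf.hstar _ (hiso s)) v = v + W s := fun s => by
      show _ = v + (ρ (tv hf.hstar _ (hiso s)) v + v)
      rw [add_left_comm, h.two, add_zero]
    have e5 : ρ T3 (ρ T4 (ρ T5 v)) = v + W 1 + W om + W (om ^ 2) := by
      rw [hev (om ^ 2), map_add (ρ T4), hev om, hfx, map_add (ρ T3), map_add (ρ T3), hev 1, hfx, hfx]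
    rw [hinj] at e5
    calc W 1 + (W (om ^ 2) + W om) = (v + v) + (W 1 + W om + W (om ^ 2)) := by rw [h.two]; abel
      _ = v + (v + W 1 + W om + W (om ^ 2)) := by abel
      _ = 0 := by rw [← e5, h.two]
  · rw [hmove1]
    have hzz : herm (om • (p + om • q)) (om • (p + om • q)) = 0 := by
      rw [herm_smul_left, herm_smul_right, hiso, mul_zero, mul_zero]
    have e : ρ (k' * k') (ρ (tv hf.hstar u hu) v + v) = ρ (tv hf.hstar _ hzz) v + v :=
      h.moved_dg (by rw [app_mul, hk'v, hk'v]) hu hzz (by rw [act_mul, ek'])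
    rw [app_mul, hW1] at e
    rw [e, tv_smul hf.hstar hf.card hf.om_ne_zero _ (hiso om)]

/-- no non-zero element is fixed by all diagonal elements -/
theorem Act.torus {v : A} (hv : ∀ a b, ρ (X hf a b) v = v) : v = 0 := by
  have hall : ∀ u (hu : herm u u = 0), u ≠ 0 → ρ (tv hf.hstar u hu) v = v := by
    intro u hu hu0
    rcases classify hf hu with h0 | ⟨a, b, hab, ha, hb, hz⟩ | ⟨l, hl, hne⟩
    · exact absurd h0 hu0
    · exact h.fix_two hv hab hu ha hb hz
    obtain ⟨w, hw⟩ : ∃ w, w = ρ (tv hf.hstar u hu) v + v := ⟨_, rfl⟩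
    have hX : ∀ a b c d : Fin 5, [a, b, c, d, l].Nodup → ρ (X hf a b) w = w := by
      intro a b c d hn
      have hn1 : [b, d, a, c, l].Nodup := by simp at hn ⊢; grind
      have hn2 : [a, d, b, c, l].Nodup := by simp at hn ⊢; grind
      have hA := (h.line_sum hv hu hn1 hl hne).1
      have hB := (h.line_sum hv hu hn2 hl hne).1
      rw [← hw] at hA hB
      set w1 := Qp ρ (X hf a b) w with hw1
      have f1 : ρ (X hf c l) w1 = w1 := h.Qp_X (by simp at hn ⊢; grind) w
      have key : ∀ g : Fin 5, Pp ρ (X hf g l * X hf c l) w = 0 → Pp ρ (X hf g l) w1 = 0 := by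
        intro g hg
        have hc : Commute (X hf a b) (X hf g l * X hf c l) := (X_comm hf _ _ _ _).mul_right (X_comm hf _ _ _ _)
        have : Pp ρ (X hf g l * X hf c l) w1 = 0 := by
          rw [hw1, Qp]
          have := congrArg (fun x => ρ (X hf a b) (ρ (X hf a b) x) + ρ (X hf a b) x) hg
          simp only [map_zero, add_zero] at this
          rw [Pp_comm hc, Pp_comm hc] at this
          simp only [Pp, Qp, map_add] at this ⊢
          rw [← this]
          abel
        have hcc : Commute (X hf c l) (X hf g l) := X_comm hf _ _ _ _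
        simp only [Pp, Qp, app_mul, app_comm hcc, f1] at this
        exact this
      set w2 := Qp ρ (X hf a l) w1 with hw2
      have g1 : ρ (X hf b c) w2 = w2 := h.Qp_X (by simp at hn ⊢; grind) w1
      have g2 : ρ (X hf c l) w2 = w2 := Qp_fixed (X_comm hf _ _ _ _) f1
      have g3 : ρ (X hf b l) w2 = w2 := by rw [← X_mul hf b c l, app_mul, g2, g1]
      have hz2 : w2 = 0 := by
        have hb' := key b hB
        have : Pp ρ (X hf b l) w2 = 0 := by
          rw [hw2, Qp]
          have hc : Commute (X hf a l) (X hf b l) := X_comm hf _ _ _ _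
          have := congrArg (fun x => ρ (X hf a l) (ρ (X hf a l) x) + ρ (X hf a l) x) hb'
          simp only [map_zero, add_zero] at this
          rw [Pp_comm hc, Pp_comm hc] at this
          simp only [Pp, Qp, map_add] at this ⊢
          rw [← this]
          abel
        rwa [h.Pp_self g3] at this
      have hz1 : w1 = 0 := by rw [← h.PQ (X hf a l) w1, key a hA, zero_add]; exact hz2
      have e : ρ (X hf a b) (ρ (X hf a b) w) = ρ (X hf a b) w := h.fix_of_sum hz1
      have e' := congrArg (ρ (X hf a b)) e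
      rw [cube_app (X_cube hf a b), e] at e'
      exact e'.symm
    have hquad : ∀ l : Fin 5, ∃ a b c d : Fin 5,
        [a, b, c, d, l].Nodup ∧ [c, a, b, d, l].Nodup ∧ [d, b, a, c, l].Nodup := by decide
    obtain ⟨a, b, c, d, hn, hn1, hn2⟩ := hquad l
    obtain ⟨hP, hk⟩ := h.line_sum hv hu hn hl hne
    rw [← hw] at hP hk
    have hk1 : ρ (X hf c a * X hf d b) w = w := by rw [app_mul, hX d b a c hn2, hX c a b d hn1]
    rw [hk1, hk1] at hk
    rw [h.Pp_self hk] at hP
    exact h.fix_of_sum (hw.symm.trans hP)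
  refine h.sep (sv 0 1 1) (sv 0 1 om) (sv_iso hf (by decide) one_ne_zero)
    (sv_iso hf (by decide) hf.om_ne_zero) ?_ v fun z hz hz0 _ => hall z hz hz0
  rw [herm_sv_right, sv_apply_left (by decide), sv_apply_right (by decide), star_one, one_mul]
  intro h0
  exact hf.om_ne_one (by linear_combination h0 - CharTwo.two_eq_zero (R := F))

/-- no non-zero element is fixed by a frame element -/
theorem Act.fixY {a : Fin 5} {v : A} (hv : ρ (Y hf a) v = v) : v = 0 := by
  have hX : ∀ b l c d : Fin 5, [a, b, l, c, d].Nodup → ρ (X hf b l) v = v := by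
    intro b l c d hn
    set w := Qp ρ (X hf b l) v with hw
    have f : ∀ p q : Fin 5, [b, l, p, q].Nodup → ρ (X hf p q) w = w := fun p q hpq => h.Qp_X hpq v
    have fad : ρ (X hf a d) w = w := f a d (by simp at hn ⊢; grind)
    have fac : ρ (X hf a c) w = w := f a c (by simp at hn ⊢; grind)
    have fcd : ρ (X hf c d) w = w := f c d (by simp at hn ⊢; grind)
    have hwY : ρ (Y hf a) w = w := Qp_fixed (X_Y_comm hf b l a).symm hv
    have hmain : ρ (X hf b l) (ρ (X hf d l) w) = w := by
      have := hwY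
      rwa [Y_eq hf hn, app_mul, app_mul, app_mul, app_mul, fcd, fad, fad] at this
    set s := X hf d l with hs
    have hc : Commute (X hf b l) s := X_comm hf _ _ _ _
    have hzP : Pp ρ s w = 0 := by
      set z := Pp ρ s w with hz
      have zs : ρ s z = z := Pp_fix (X_cube hf d l) w
      have zb : ρ (X hf b l) z = z := by
        conv_lhs => rw [← zs]
        rw [hz, Pp_comm (Commute.refl s), Pp_comm hc, hmain]
      have zq : Qp ρ (X hf b l) z = z := by
        rw [hz]
        calc Qp ρ (X hf b l) (Pp ρ s w) = Pp ρ s (Qp ρ (X hf b l) w) := by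
              simp only [Qp, map_add, Pp_comm hc]
              simp only [Pp, Qp, map_add]
              abel
          _ = Pp ρ s w := by rw [hw, h.Qp_Qp (X_cube hf b l)]
      rw [← zq, h.Qp_zero zb]
    have hzQ : Qp ρ s w = 0 := by
      set z := Qp ρ s w with hz
      have zbc : ρ (X hf b c) z = z := h.Qp_X (by simp at hn ⊢; grind) w
      have zcd : ρ (X hf c d) z = z := Qp_fixed (X_comm hf _ _ _ _) fcd
      have zbd : ρ (X hf b d) z = z := by rw [← X_mul hf b c d, app_mul, zcd, zbc]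
      have zbl : ρ (X hf b l) z = ρ s z := by
        rw [← X_mul hf b d l, app_mul, ← hs, hz, app_comm ((X_comm hf b d d l)), zbd]
      have zs2 : ρ s (ρ s z) = z := by
        have h0 : ρ (X hf b l) (ρ s z) = z := by
          rw [hz, Qp_comm (Commute.refl s), Qp_comm hc, hmain]
        rwa [app_comm hc, zbl] at h0
      have zs : ρ s z = z := by
        have := congrArg (ρ s) zs2
        rw [cube_app (X_cube hf d l)] at this
        exact this.symm
      rw [hz, ← h.Qp_Qp (X_cube hf d l), ← hz]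
      exact h.Qp_zero zs
    have hw0 : w = 0 := by rw [← h.PQ s w, hzP, hzQ, add_zero]
    conv_lhs => rw [← h.PQ (X hf b l) v, ← hw, hw0, add_zero]
    rw [Pp_fix (X_cube hf b l), Pp, ← hw, hw0, add_zero]
  refine h.torus fun p q => ?_
  rcases eq_or_ne p q with rfl | hpq
  · rw [X_self, app_one]
  have hrev : ∀ p q, ρ (X hf q p) v = v → ρ (X hf p q) v = v := fun p q h0 => by
    conv_lhs => rw [← h0]
    rw [← app_mul, X_mul, X_self, app_one]
  have haway : ∀ p q, p ≠ a → q ≠ a → ρ (X hf p q) v = v := fun p q hp hq => by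
    rcases eq_or_ne p q with rfl | hpq
    · rw [X_self, app_one]
    have : ∀ a p q : Fin 5, p ≠ a → q ≠ a → p ≠ q → ∃ c d, [a, p, q, c, d].Nodup := by decide
    obtain ⟨c, d, hn⟩ := this a p q hp hq hpq
    exact hX p q c d hn
  have hto : ∀ d, d ≠ a → ρ (X hf a d) v = v := fun d hd => by
    have : ∀ a d : Fin 5, d ≠ a → ∃ b l c, [a, b, l, c, d].Nodup := by decide
    obtain ⟨b, l, c, hn⟩ := this a d hd
    have hne : b ≠ a ∧ l ≠ a ∧ c ≠ a := by simp at hn ⊢; grind
    have h1 := hv
    rw [Y_eq hf hn, app_mul, app_mul, app_mul, app_mul, haway c d hne.2.2 hd] at h1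
    rw [app_comm ((X_comm hf d l a d)), app_comm ((X_comm hf d l a d)), haway d l hd hne.2.1,
      app_comm ((X_comm hf b l a d)), app_comm ((X_comm hf b l a d)), haway b l hne.1 hne.2.1] at h1
    have := congrArg (ρ (X hf a d)) h1
    rw [cube_app (X_cube hf a d)] at this
    exact this.symm
  rcases eq_or_ne p a with rfl | hp
  · exact hto q hpq.symm
  rcases eq_or_ne q a with rfl | hq
  · exact hrev _ _ (hto p hpq)
  exact haway p q hp hq

/-- the fixed elements of the centraliser of a short transvection are its displacements -/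
theorem Act.moved_base {v : A}
    (hv : ∀ z (hz : herm z z = 0), z ≠ 0 → herm z (sv (0 : Fin 5) 1 1) = 0 → ρ (tv hf.hstar z hz) v = v) :
    ∃ v', v = ρ (tv hf.hstar _ (sv_iso hf (show (0 : Fin 5) ≠ 1 by decide) one_ne_zero)) v' + v' := by
  set t := tv hf.hstar _ (sv_iso hf (show (0 : Fin 5) ≠ 1 by decide) one_ne_zero) with ht
  have htv : ρ t v = v := hv _ _ (fun h0 => by
    have := congrFun h0 0
    rw [sv_apply_left (by decide)] at this
    exact one_ne_zero this) (sv_iso hf (show (0 : Fin 5) ≠ 1 by decide) one_ne_zero)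
  have hfar : ∀ p q : Fin 5, p ≠ 0 → p ≠ 1 → q ≠ 0 → q ≠ 1 → ρ (X hf p q) v = v := by
    intro p q hp0 hp1 hq0 hq1
    rcases eq_or_ne p q with rfl | hpq
    · rw [X_self, app_one]
    have hh : ∀ l : F, herm (sv p q l) (sv (0 : Fin 5) 1 1) = 0 := fun l => by
      rw [herm_sv_right, sv_apply hp0.symm hq0.symm, sv_apply hp1.symm hq1.symm, star_zero,
        zero_mul, add_zero]
    have hne : ∀ l : F, sv p q l ≠ 0 := fun l h0 => by
      have := congrFun h0 p
      rw [sv_apply_left hpq] at this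
      exact one_ne_zero this
    rw [X_eq_tv hf hpq, app_mul, hv _ _ (hne _) (hh _), hv _ _ (hne _) (hh _)]
  have hswap : t * X hf 0 2 = X hf 1 2 * t := by
    refine Cfsg.Agent.Classical.URoot.eq_of_act fun x => funext fun i => ?_
    have h2' := CharTwo.two_eq_zero (R := F)
    rw [act_mul, act_mul, ht, act_tv, Pi.add_apply, X, X, act_dg hf (sum_xk 1 2), act_dg hf (sum_xk 0 2), act_tv]
    simp only [Pi.add_apply, Pi.smul_apply, smul_eq_mul, herm_sv_left, star_one, one_mul,
      act_dg hf (sum_xk 0 2)]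
    rcases eq_or_ne i 0 with rfl | h0
    · simp [sv_apply_left (show (0 : Fin 5) ≠ 1 by decide), xk, ee]
      linear_combination (om * x 0 - x 0) * h2'
    rcases eq_or_ne i 1 with rfl | h1
    · simp [sv_apply_right (show (0 : Fin 5) ≠ 1 by decide), xk, ee]
      linear_combination (x 1 - om * x 1) * h2'
    · rw [sv_apply h0 h1, show xk (1 : Fin 5) 2 i = xk 0 2 i by simp [xk, h0, h1]]
      ring
  have htt : ∀ y, ρ t (Qp ρ (X hf 0 2) y) = Qp ρ (X hf 1 2) (ρ t y) := fun y => by
    simp only [Qp, map_add]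
    rw [← app_mul t (X hf 0 2), hswap, app_mul, ← app_mul t (X hf 0 2) y, hswap, app_mul]
  refine ⟨Qp ρ (X hf 0 2) v, ?_⟩
  rw [htt, htv]
  have h1 : Qp ρ (X hf 1 2) (Qp ρ (X hf 0 2) v) = 0 := by
    refine h.Qp_zero ?_
    rw [← X_mul hf 1 3 2, app_mul, Qp_fixed (X_comm hf _ _ _ _) (hfar 3 2 (by decide) (by decide)
      (by decide) (by decide)), h.Qp_X (by decide) v]
  have hc : Commute (X hf 1 2) (X hf 0 2) := X_comm hf _ _ _ _
  have h2 : Pp ρ (X hf 1 2) (Pp ρ (X hf 0 2) v) = 0 := by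
    set y := Pp ρ (X hf 1 2) (Pp ρ (X hf 0 2) v)
    have h02 : ρ (X hf 0 2) y = y := Pp_fixed hc.symm (Pp_fix (X_cube hf 0 2) v)
    have h12 : ρ (X hf 1 2) y = y := Pp_fix (X_cube hf 1 2) _
    have hto2 : ∀ p, ρ (X hf p 2) y = y := by
      intro p
      rcases eq_or_ne p 0 with rfl | hp0
      · exact h02
      rcases eq_or_ne p 1 with rfl | hp1
      · exact h12
      exact Pp_fixed (X_comm hf _ _ _ _) (Pp_fixed (X_comm hf _ _ _ _)
        (hfar p 2 hp0 hp1 (by decide) (by decide)))
    refine h.torus fun p q => ?_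
    have hq : ρ (X hf 2 q) y = y := by
      conv_lhs => rw [← hto2 q]
      rw [← app_mul, X_mul, X_self, app_one]
    rw [← X_mul hf p 2 q, app_mul, hq, hto2]
  have hlin : ∀ x y : A, Qp ρ (X hf 1 2) (x + y) = Qp ρ (X hf 1 2) x + Qp ρ (X hf 1 2) y := fun x y => by
    simp only [Qp, map_add]
    abel
  have e : Pp ρ (X hf 0 2) v = Qp ρ (X hf 1 2) v := by
    conv_rhs => rw [← h.PQ (X hf 0 2) v, hlin, h1, add_zero]
    conv_lhs => rw [← h.PQ (X hf 1 2) (Pp ρ (X hf 0 2) v), h2, zero_add]
  conv_lhs => rw [← h.PQ (X hf 0 2) v, e]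

/-- the fixed elements of the centraliser of a transvection are its displacements -/
theorem Act.moved {u : Fin 5 → F} (hu : herm u u = 0) (hu0 : u ≠ 0) {v : A}
    (hv : ∀ z (hz : herm z z = 0), z ≠ 0 → Commute (tv hf.hstar z hz) (tv hf.hstar u hu) →
      ρ (tv hf.hstar z hz) v = v) :
    ∃ v', v = ρ (tv hf.hstar u hu) v' + v' := by
  obtain ⟨-, ⟨t₀, -, ht⟩, -⟩ := UnitaryTrans.isClass (n := 5) hf.hstar hf.card (by norm_num)
  have hb0 : sv (0 : Fin 5) 1 (1 : F) ≠ 0 := fun h0 => by
    have := congrFun h0 0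
    rw [sv_apply_left (by decide)] at this
    exact one_ne_zero this
  have h1 : IsConj t₀ (tv hf.hstar u hu) := (Set.ext_iff.1 ht _).1 (tv_rank hf.hstar hu0 hu)
  have h2 : IsConj t₀ (tv hf.hstar _ (sv_iso hf (show (0 : Fin 5) ≠ 1 by decide) one_ne_zero)) :=
    (Set.ext_iff.1 ht _).1 (tv_rank hf.hstar hb0 _)
  obtain ⟨k, hk⟩ := isConj_iff.1 (h2.symm.trans h1)
  obtain ⟨w, hw⟩ := h.moved_base (v := ρ k⁻¹ v) fun z hz hz0 hzb => by
    have hc := tv_commute hf.hstar hz (sv_iso hf (show (0 : Fin 5) ≠ 1 by decide) one_ne_zero) hzb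
    have hk0 : act k z ≠ 0 := fun h0 => hz0 (act_injective k (h0.trans (by simp [act])))
    have := hv (act k z) (by rw [herm_act hf.hstar]; exact hz) hk0 (by
      rw [← tv_conj hf.hstar k z hz, ← hk]
      exact (Commute.conj_iff k).2 hc)
    rw [← tv_conj hf.hstar k z hz, app_mul, app_mul] at this
    have h3 := congrArg (ρ k⁻¹) this
    rwa [← app_mul k⁻¹, inv_mul_cancel, app_one] at h3
  refine ⟨ρ k w, ?_⟩
  rw [← hk, app_mul, app_mul, ← app_mul k⁻¹, inv_mul_cancel, app_one, ← map_add, ← hw, ← app_mul,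
    mul_inv_cancel, app_one]

end Cfsg.Agent.Spor.UnitaryFive
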