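import Cfsg.Agent.Lib.Spor.UnitaryFiveModule
import Cfsg.Agent.Lib.Spor.ThreeTwoRadical

/-!
Over the unitary group in dimension five on four elements, a class of 3-transpositions with elementary
abelian kernel has, for a lifted frame, exactly one member over each transvection centralising the
lifted frame elements which its image centralises; these members are closed under conjugation.
-/

set_option autoImplicit false
set_option linter.unusedSectionVars false
set_option linter.unusedSimpArgs false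

namespace Cfsg.Agent.Spor.UnitaryFive

open Matrix Cfsg.Agent.Small Cfsg.Agent.Small.Unitary Cfsg.Agent.Spor.UnitaryTrans Cfsg.Agent.Spor.UnitarySeven

variable {F : Type} [Field F] [Fintype F] [DecidableEq F] [StarRing F] [CharP F 2]
variable {G : Type*} [Group G] [Finite G] {D : Set G} {π : G →* Cfsg.SU 5 F 2}

/-- the situation over the transvections of the unitary group in dimension five -/
structure Over {om : F} (hf : Four om) (D : Set G) (π : G →* Cfsg.SU 5 F 2) : Prop where
  data : TwoRadical.Data D π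
  abel : ∀ x ∈ π.ker, ∀ y ∈ π.ker, Commute x y
  sq : ∀ x ∈ π.ker, x * x = 1
  img : π '' D = {t | ∃ (v : Fin 5 → F) (hv : herm v v = 0), v ≠ 0 ∧ t = tv hf.hstar v hv}

/-- centralises nothing of the kernel -/
def Free (π : G →* Cfsg.SU 5 F 2) (y : G) : Prop := ∀ v ∈ π.ker, Commute y v → v = 1

variable {om : F} {hf : Four om} (h : Over hf D π)
include h

theorem Over.conj_eq {g g' v : G} (e : π g = π g') (hv : v ∈ π.ker) :
    g * v * g⁻¹ = g' * v * g'⁻¹ := by
  have hk : g'⁻¹ * g ∈ π.ker := by rw [MonoidHom.mem_ker, map_mul, map_inv, e, inv_mul_cancel]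
  calc g * v * g⁻¹ = g' * (g'⁻¹ * g * v * (g'⁻¹ * g)⁻¹) * g'⁻¹ := by group
    _ = g' * v * g'⁻¹ := by rw [(h.abel _ hk v hv).eq, mul_inv_cancel_right]

theorem Over.inv_ker {v : G} (hv : v ∈ π.ker) : v⁻¹ = v := inv_eq_of_mul_eq_one_right (h.sq v hv)

@[reducible] def Over.commGroup (h : Over hf D π) : CommGroup ↥π.ker :=
  { (inferInstance : Group ↥π.ker) with mul_comm := fun a b => Subtype.ext (h.abel _ a.2 _ b.2).eq }

theorem Over.exists_action : letI := h.commGroup
    ∃ ρ : Cfsg.SU 5 F 2 →* AddMonoid.End (Additive ↥π.ker), Act hf ρ ∧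
    ∀ (g : G) (v : ↥π.ker), (Additive.toMul (ρ (π g) (Additive.ofMul v))).1 = g * v.1 * g⁻¹ := by
  letI := h.commGroup
  let L : Cfsg.SU 5 F 2 → G := Function.surjInv h.data.surj
  have hL : ∀ s, π (L s) = s := Function.surjInv_eq h.data.surj
  have hnorm : ∀ (g : G) (v : ↥π.ker), g * v.1 * g⁻¹ ∈ π.ker := fun g v =>
    (MonoidHom.normal_ker π).conj_mem _ v.2 g
  let c : Cfsg.SU 5 F 2 → (↥π.ker →* ↥π.ker) := fun s =>
    { toFun := fun v => ⟨L s * v.1 * (L s)⁻¹, hnorm _ v⟩
      map_one' := Subtype.ext (by simp)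
      map_mul' := fun a b => Subtype.ext (by simp [mul_assoc]) }
  let ρ : Cfsg.SU 5 F 2 →* AddMonoid.End (Additive ↥π.ker) :=
    { toFun := fun s => MonoidHom.toAdditive (c s)
      map_one' := by
        refine AddMonoidHom.ext fun v => ?_
        show Additive.ofMul (c 1 (Additive.toMul v)) = v
        refine congrArg Additive.ofMul (Subtype.ext ?_) |>.trans (ofMul_toMul v)
        show L 1 * (Additive.toMul v).1 * (L 1)⁻¹ = (Additive.toMul v).1
        rw [h.conj_eq (g' := 1) (by rw [hL, map_one]) (Additive.toMul v).2]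
        simp
      map_mul' := fun s t => by
        refine AddMonoidHom.ext fun v => ?_
        show Additive.ofMul (c (s * t) (Additive.toMul v)) =
          Additive.ofMul (c s (c t (Additive.toMul v)))
        refine congrArg Additive.ofMul (Subtype.ext ?_)
        show L (s * t) * (Additive.toMul v).1 * (L (s * t))⁻¹ =
          L s * (L t * (Additive.toMul v).1 * (L t)⁻¹) * (L s)⁻¹
        rw [h.conj_eq (g' := L s * L t) (by rw [hL, map_mul, hL, hL]) (Additive.toMul v).2]
        group }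
  have hρ : ∀ (g : G) (v : ↥π.ker),
      (Additive.toMul (ρ (π g) (Additive.ofMul v))).1 = g * v.1 * g⁻¹ :=
    fun g v => h.conj_eq (hL (π g)) v.2
  refine ⟨ρ, ⟨fun v => ?_, ?_, ?_⟩, hρ⟩
  · exact Additive.toMul.injective (Subtype.ext (h.sq _ (Additive.toMul v).2))
  · intro a b ha hb ha0 hb0 hab v
    obtain ⟨x, rfl⟩ := Additive.ofMul.surjective v
    obtain ⟨d, hd, hdπ⟩ : tv hf.hstar a ha ∈ π '' D := h.img ▸ ⟨a, ha, ha0, rfl⟩
    obtain ⟨e, he, heπ⟩ : tv hf.hstar b hb ∈ π '' D := h.img ▸ ⟨b, hb, hb0, rfl⟩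
    obtain ⟨w, hw⟩ : ∃ w, w = Additive.toMul (ρ (tv hf.hstar a ha) (Additive.ofMul x) + Additive.ofMul x) :=
      ⟨_, rfl⟩
    refine Additive.toMul.injective (Subtype.ext ?_)
    rw [← hw, ← heπ, show ρ (tv hf.hstar a ha) (Additive.ofMul x) + Additive.ofMul x = Additive.ofMul w by
      rw [hw, ofMul_toMul], hρ]
    have ew : (w : G) = d * (x.1 * d * x.1⁻¹) := by
      rw [hw, ← hdπ]
      show (Additive.toMul (ρ (π d) (Additive.ofMul x))).1 * x.1 = _
      rw [hρ, h.inv_ker x.2, h.data.inv hd]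
      simp only [mul_assoc]
    have hc : Commute (w : G) e := by
      rw [ew]
      refine h.data.pair_commute hd (h.data.conjD hd x.1) ?_ he ?_
      · rw [map_mul, map_mul, map_inv, MonoidHom.mem_ker.1 x.2, one_mul, inv_one, mul_one]
      · rw [hdπ, heπ]
        exact tv_commute hf.hstar ha hb hab
    rw [← hc.eq, mul_inv_cancel_right]
  · intro a b ha hb hab v hv
    obtain ⟨x, rfl⟩ := Additive.ofMul.surjective v
    have key : ∀ u ∈ D, Commute (π u) (tv hf.hstar a ha) ∨ Commute (π u) (tv hf.hstar b hb) →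
        (∀ z (hz : herm z z = 0), π u = tv hf.hstar z hz → herm z a = 0 ∨ herm z b = 0) →
        Commute (x : G) u := by
      intro u hu _ hz'
      obtain ⟨z, hz, hz0, e⟩ := (Set.ext_iff.1 h.img (π u)).1 ⟨u, hu, rfl⟩
      have h1 := hv z hz hz0 (hz' z hz e)
      have h2 := congrArg (fun y => (Additive.toMul y).1) h1
      simp only [← e, hρ, toMul_ofMul] at h2
      exact (mul_inv_eq_iff_eq_mul.1 h2).symm
    have hall : ∀ u ∈ D, Commute (x : G) u := by
      intro u hu
      obtain ⟨s, hs, hs0, es⟩ := (Set.ext_iff.1 h.img (π u)).1 ⟨u, hu, rfl⟩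
      obtain ⟨p, r, hp, hr, hp0, hr0, hpo, hro, he⟩ :=
        UnitaryFive.gen_pair hf.hstar hf.card ha hb hs hs0 hab
      obtain ⟨a', ha', ea⟩ : tv hf.hstar p hp ∈ π '' D := h.img ▸ ⟨p, hp, hp0, rfl⟩
      have hu' : a' * u * a' ∈ D := h.data.conj_self ha' hu
      have heq : π (a' * u * a') = tv hf.hstar r hr := by
        rw [map_mul, map_mul, es, ea, he]
        simp only [← mul_assoc, tv_sq, one_mul]
        simp only [mul_assoc, tv_sq, mul_one]
      have hsame : ∀ (z w : Fin 5 → F) (hz : herm z z = 0) (hw : herm w w = 0), w ≠ 0 →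
          tv hf.hstar z hz = tv hf.hstar w hw → (herm w a = 0 ∨ herm w b = 0) → herm z a = 0 ∨ herm z b = 0 := by
        intro z w hz hw hw0 e hor
        have hzw : ∃ c : F, w = c • z := by
          obtain ⟨y, hy⟩ := Cfsg.Agent.Classical.URoot.exists_herm_one hw0
          have := congrArg (fun t => act t y) e
          simp only [act_tv, hy, one_smul, add_right_inj] at this
          exact ⟨_, this.symm⟩
        obtain ⟨c, rfl⟩ := hzw
        have hc0 : star c ≠ 0 := star_ne_zero.2 fun h0 => hw0 (by rw [h0, zero_smul])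
        refine hor.imp (fun h0 => ?_) (fun h0 => ?_) <;>
          · rw [herm_smul_left] at h0
            exact (mul_eq_zero.1 h0).resolve_left hc0
      have h1 := key a' ha' (ea ▸ hpo.imp (tv_commute hf.hstar hp ha) (tv_commute hf.hstar hp hb))
        fun z hz e => hsame z p hz hp hp0 (e.symm.trans ea) hpo
      have h2 := key _ hu' (heq ▸ hro.imp (tv_commute hf.hstar hr ha) (tv_commute hf.hstar hr hb))
        fun z hz e => hsame z r hz hr hr0 (e.symm.trans heq) hro
      have e : u = a' * (a' * u * a') * a' := by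
        have haa := h.data.sq ha'
        calc u = (a' * a') * u * (a' * a') := by rw [haa, one_mul, mul_one]
          _ = a' * (a' * u * a') * a' := by simp only [mul_assoc]
      rw [e]
      exact (h1.mul_right h2).mul_right h1
    have hx : (x : G) ∈ Subgroup.center G := mem_center_of_commutes h.data.cls.2.2 hall
    rw [h.data.cent, Subgroup.mem_bot] at hx
    exact congrArg Additive.ofMul (Subtype.ext hx : x = 1)

theorem Over.free {y : G} {a : Fin 5} (hy : π y = Y hf a) : Free π y := by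
  obtain ⟨ρ, hA, hρ⟩ := h.exists_action
  letI := h.commGroup
  intro v hv hc
  have h1 : Additive.ofMul (⟨v, hv⟩ : ↥π.ker) = 0 := by
    refine hA.fixY (a := a) (Additive.toMul.injective (Subtype.ext ?_))
    rw [← hy, hρ]
    show y * v * y⁻¹ = v
    rw [hc.eq, mul_inv_cancel_right]
  exact congrArg (fun z => (Additive.toMul z).1) h1

theorem Over.displaced {d : G} (hd : d ∈ D) {v : G} (hv : v ∈ π.ker)
    (hc : ∀ e ∈ D, Commute (π e) (π d) → Commute e v) : ∃ z ∈ π.ker, v = d * z * d⁻¹ * z := by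
  obtain ⟨ρ, hA, hρ⟩ := h.exists_action
  letI := h.commGroup
  obtain ⟨u, hu, hu0, e⟩ := (Set.ext_iff.1 h.img (π d)).1 ⟨d, hd, rfl⟩
  obtain ⟨w, hw⟩ := hA.moved hu hu0 (v := Additive.ofMul (⟨v, hv⟩ : ↥π.ker)) fun z hz hz0 hzc => by
    obtain ⟨g, hg, hgπ⟩ : tv hf.hstar z hz ∈ π '' D := h.img ▸ ⟨z, hz, hz0, rfl⟩
    refine Additive.toMul.injective (Subtype.ext ?_)
    rw [← hgπ, hρ]
    show g * v * g⁻¹ = v
    rw [(hc g hg (by rw [hgπ, e]; exact hzc)).eq, mul_inv_cancel_right]
  obtain ⟨z, rfl⟩ := Additive.ofMul.surjective w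
  refine ⟨z.1, z.2, ?_⟩
  rw [← e] at hw
  have h2 := congrArg (fun y => (Additive.toMul y).1) hw
  calc v = (Additive.toMul (ρ (π d) (Additive.ofMul z))).1 * z.1 := h2
    _ = _ := by rw [hρ]

theorem Over.solve {y : G} (hy : Free π y) {c : G} (hc : c ∈ π.ker) :
    ∃ w ∈ π.ker, y * w * y⁻¹ * w = c := by
  haveI := MonoidHom.normal_ker π
  have hn : ∀ w ∈ π.ker, y * w * y⁻¹ ∈ π.ker := fun w hw => (MonoidHom.normal_ker π).conj_mem w hw y
  let f : ↥π.ker → ↥π.ker := fun w => ⟨y * w.1 * y⁻¹ * w.1, mul_mem (hn _ w.2) w.2⟩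
  have hf' : Function.Injective f := by
    intro a b e
    have e' : y * a.1 * y⁻¹ * a.1 = y * b.1 * y⁻¹ * b.1 := congrArg Subtype.val e
    have hcm : Commute y (a.1 * b.1) := by
      refine mul_inv_eq_iff_eq_mul.1 ?_
      calc y * (a.1 * b.1) * y⁻¹ = (y * a.1 * y⁻¹) * (y * b.1 * y⁻¹) := by group
        _ = (y * a.1 * y⁻¹ * a.1) * a.1 * (y * b.1 * y⁻¹) := by
            rw [mul_assoc (y * a.1 * y⁻¹) a.1 a.1, h.sq _ a.2, mul_one]
        _ = (y * b.1 * y⁻¹) * (b.1 * a.1) * (y * b.1 * y⁻¹) := by rw [e']; simp only [mul_assoc]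
        _ = (b.1 * a.1) * ((y * b.1 * y⁻¹) * (y * b.1 * y⁻¹)) := by
            rw [(h.abel _ (hn _ b.2) _ (mul_mem b.2 a.2)).eq, mul_assoc]
        _ = a.1 * b.1 := by rw [h.sq _ (hn _ b.2), mul_one, (h.abel _ b.2 _ a.2).eq]
    have := hy _ (mul_mem a.2 b.2) hcm
    exact Subtype.ext ((eq_inv_of_mul_eq_one_left this).trans (h.inv_ker b.2))
  obtain ⟨w, hw⟩ := Finite.injective_iff_surjective.1 hf' ⟨c, hc⟩
  exact ⟨w.1, w.2, congrArg Subtype.val hw⟩

omit h

theorem Free.uniq {y g g' : G} (hy : Free π y) (e : π g = π g') (hg : Commute y g) (hg' : Commute y g') :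
    g = g' :=
  inv_mul_eq_one.1 (hy _ (by rw [MonoidHom.mem_ker, map_mul, map_inv, e, inv_mul_cancel])
    (hg.inv_right.mul_right hg'))

theorem Free.conj {y : G} (hy : Free π y) (g : G) : Free π (g * y * g⁻¹) := by
  intro v hv hc
  have hk := hy (g⁻¹ * v * g⁻¹⁻¹) ((MonoidHom.normal_ker π).conj_mem v hv g⁻¹) (by
    have h1 := (Commute.conj_iff g⁻¹).2 hc
    have e : g⁻¹ * (g * y * g⁻¹) * g⁻¹⁻¹ = y := by group
    rwa [e] at h1)
  calc v = g * (g⁻¹ * v * g⁻¹⁻¹) * g⁻¹ := by group
    _ = 1 := by rw [hk, mul_one, mul_inv_cancel]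

/-- commuting images give commuting members inside the centraliser -/
theorem Free.commute {y g g' : G} (hy : Free π y) (hc : Commute (π g) (π g')) (hg : Commute y g)
    (hg' : Commute y g') : Commute g g' :=
  hy.uniq (by rw [map_mul, map_mul, hc.eq]) (hg.mul_right hg') (hg'.mul_right hg)

include h

theorem Over.lift_member {y : G} (hy : Free π y) {d : G} (hd : d ∈ D) (hc : Commute (π y) (π d)) :
    ∃ e ∈ D, π e = π d ∧ Commute y e := by
  have hd1 : y * d * y⁻¹ ∈ D := h.data.conjD hd y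
  have he1 : π (y * d * y⁻¹) = π d := by rw [map_mul, map_mul, map_inv, hc.eq, mul_inv_cancel_right]
  have hck : y * d * y⁻¹ * d ∈ π.ker := by
    rw [MonoidHom.mem_ker, map_mul, he1, ← map_mul, h.data.sq hd, map_one]
  obtain ⟨z, hz, ez⟩ := h.displaced hd hck fun e he hce =>
    (h.data.pair_commute hd1 hd he1 he (by rw [he1]; exact hce.symm)).symm
  have hk' : d * z * d⁻¹ ∈ π.ker := (MonoidHom.normal_ker π).conj_mem z hz d
  have ed : y * d * y⁻¹ = z * d * z⁻¹ := by
    calc y * d * y⁻¹ = (y * d * y⁻¹ * d) * d := by rw [mul_assoc (y * d * y⁻¹), h.data.sq hd, mul_one]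
      _ = (z * (d * z * d⁻¹)) * d := by rw [ez, (h.abel _ hk' _ hz).eq]
      _ = z * d * z⁻¹ := by rw [h.inv_ker hz]; group
  obtain ⟨w, hw, ew⟩ := h.solve hy hz
  refine ⟨w * d * w⁻¹, h.data.conjD hd w, by
    rw [map_mul, map_mul, map_inv, MonoidHom.mem_ker.1 hw, one_mul, inv_one, mul_one], ?_⟩
  refine mul_inv_eq_iff_eq_mul.1 ?_
  have e2 : y * w * y⁻¹ * z = w := by
    rw [← ew, ← mul_assoc, h.sq _ ((MonoidHom.normal_ker π).conj_mem w hw y), one_mul]
  calc y * (w * d * w⁻¹) * y⁻¹ = (y * w * y⁻¹) * (y * d * y⁻¹) * (y * w * y⁻¹)⁻¹ := by group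
    _ = (y * w * y⁻¹ * z) * d * (y * w * y⁻¹ * z)⁻¹ := by rw [ed]; group
    _ = w * d * w⁻¹ := by rw [e2]

theorem Over.lift_frame : ∃ yh : Fin 5 → G, (∀ a, π (yh a) = Y hf a) ∧ ∀ a b, Commute (yh a) (yh b) := by
  obtain ⟨y0, hy0⟩ := h.data.surj (Y hf 0)
  have hF0 := h.free hy0
  have : ∀ a, ∃ y, π y = Y hf a ∧ Commute y0 y := by
    intro a
    obtain ⟨g, hg⟩ := h.data.surj (Y hf a)
    have hck : y0 * g * y0⁻¹ * g⁻¹ ∈ π.ker := by
      rw [MonoidHom.mem_ker, map_mul, map_mul, map_mul, map_inv, map_inv, hg, hy0, (Y_comm hf 0 a).eq,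
        mul_inv_cancel_right, mul_inv_cancel]
    obtain ⟨w, hw, ew⟩ := h.solve hF0 hck
    refine ⟨w * g, by rw [map_mul, MonoidHom.mem_ker.1 hw, one_mul, hg], mul_inv_eq_iff_eq_mul.1 ?_⟩
    have hwy := (MonoidHom.normal_ker π).conj_mem w hw y0
    calc y0 * (w * g) * y0⁻¹ = (y0 * w * y0⁻¹) * (y0 * g * y0⁻¹ * g⁻¹) * g := by group
      _ = w * g := by rw [← ew, ← mul_assoc (y0 * w * y0⁻¹), h.sq _ hwy, one_mul]
  choose yh hyh hyc using this
  exact ⟨yh, hyh, fun a b => hF0.commute (by rw [hyh, hyh]; exact Y_comm hf a b) (hyc a) (hyc b)⟩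

omit h

/-- frame element at a vector of norm one -/
def IsY (om : F) (m : Fin 5 → F) (s : Cfsg.SU 5 F 2) : Prop := ∀ x, act s x = om • x + herm m x • m

theorem IsY.unique {m : Fin 5 → F} {s t : Cfsg.SU 5 F 2} (hs : IsY om m s) (ht : IsY om m t) : s = t :=
  Cfsg.Agent.Classical.URoot.eq_of_act fun x => by rw [hs, ht]

theorem isY_Y (hf : Four om) (a : Fin 5) : IsY om (Pi.single a (1 : F)) (Y hf a) := by
  intro x
  funext i
  rw [Y, act_dg hf (sum_yk a), herm_single_left, star_one, one_mul]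
  rcases eq_or_ne i a with rfl | hi
  · simp only [yk, Pi.add_apply, Pi.one_apply, Pi.single_eq_same, Pi.smul_apply, smul_eq_mul, mul_one]
    show om ^ 2 * x i = _
    linear_combination (x i) * hf.quad - (om * x i + x i) * CharTwo.two_eq_zero (R := F)
  · simp [yk, ee, hi]

theorem IsY.conj (hf : Four om) {m : Fin 5 → F} {s : Cfsg.SU 5 F 2} (hs : IsY om m s)
    (g : Cfsg.SU 5 F 2) : IsY om (act g m) (g * s * g⁻¹) := by
  intro x
  rw [act_mul, act_mul, hs, act_add, act_smul, act_smul, act_act_inv, ← herm_act hf.hstar g m, act_act_inv]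

theorem IsY.smul (hf : Four om) {m : Fin 5 → F} {s : Cfsg.SU 5 F 2} (hs : IsY om m s) {c : F}
    (hc : c ≠ 0) : IsY om (c • m) s := by
  intro x
  rw [hs, herm_smul_left, smul_smul, mul_right_comm, hf.norm hc, one_mul]

theorem IsY.commute_tv (hf : Four om) {m v : Fin 5 → F} {s : Cfsg.SU 5 F 2} (hs : IsY om m s)
    (hv : herm v v = 0) (hmv : herm v m = 0) : Commute s (tv hf.hstar v hv) := by
  refine Cfsg.Agent.Classical.URoot.eq_of_act fun x => ?_
  have hvm : herm m v = 0 := by rw [← star_herm v m, hmv, star_zero]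
  simp only [act_mul, act_tv, hs x, hs (x + herm v x • v), herm_add_right, herm_smul_right, hmv, hvm,
    mul_zero, add_zero, smul_add, smul_smul]
  module

theorem IsY.commute (hf : Four om) {m m' : Fin 5 → F} {s t : Cfsg.SU 5 F 2} (hs : IsY om m s)
    (ht : IsY om m' t) (hmm : herm m m' = 0) : Commute s t := by
  refine Cfsg.Agent.Classical.URoot.eq_of_act fun x => ?_
  have hmm' : herm m' m = 0 := by rw [← star_herm m m', hmm, star_zero]
  simp only [act_mul, ht x, hs x, hs (om • x + herm m' x • m'), ht (om • x + herm m x • m), herm_add_right,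
    herm_smul_right, hmm, hmm', mul_zero, add_zero, smul_add, smul_smul]
  module

include h

/-- the section attached to a lifted frame -/
def Over.sec (_ : Over hf D π) (yh : Fin 5 → G) : Set G :=
  {g | g ∈ D ∧ ∀ a, Commute (π g) (Y hf a) → Commute g (yh a)}

variable {yh : Fin 5 → G} (hy : ∀ a, π (yh a) = Y hf a) (hyc : ∀ a b, Commute (yh a) (yh b))
include hy hyc

theorem Over.zero_commute {u : Fin 5 → F} (hu : herm u u = 0) {a : Fin 5} (ha : u a = 0) :
    Commute (tv hf.hstar u hu) (Y hf a) :=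
  ((isY_Y hf a).commute_tv hf hu (by rw [herm_single_right, ha, star_zero, zero_mul])).symm

theorem Over.sec_of {g : G} (hg : g ∈ D) {a : Fin 5} (hc : Commute g (yh a)) : g ∈ h.sec yh := by
  refine ⟨hg, fun b hb => ?_⟩
  have hb' : Commute (π (yh b)) (π g) := by rw [hy]; exact hb.symm
  exact ((h.free (hy a)).commute hb' (hyc a b) hc.symm).symm

theorem Over.sec_exists {u : Fin 5 → F} (hu : herm u u = 0) (hu0 : u ≠ 0) :
    ∃ g ∈ h.sec yh, π g = tv hf.hstar u hu := by
  obtain ⟨d, hd, e⟩ : tv hf.hstar u hu ∈ π '' D := h.img ▸ ⟨u, hu, hu0, rfl⟩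
  obtain ⟨a, ha⟩ := has_zero hf hu
  obtain ⟨g, hg, hge, hgc⟩ := h.lift_member (h.free (hy a)) hd
    (by rw [hy, e]; exact (h.zero_commute hy hyc hu ha).symm)
  exact ⟨g, h.sec_of hy hyc hg hgc.symm, hge.trans e⟩

theorem Over.sec_data {g : G} (hg : g ∈ h.sec yh) : ∃ (u : Fin 5 → F) (hu : herm u u = 0),
    u ≠ 0 ∧ π g = tv hf.hstar u hu ∧ ∀ a, u a = 0 → Commute g (yh a) := by
  obtain ⟨u, hu, hu0, e⟩ := (Set.ext_iff.1 h.img (π g)).1 ⟨g, hg.1, rfl⟩
  exact ⟨u, hu, hu0, e, fun a ha => hg.2 a (e ▸ h.zero_commute hy hyc hu ha)⟩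

theorem Over.sec_unique {g g' : G} (hg : g ∈ h.sec yh) (hg' : g' ∈ h.sec yh) (e : π g = π g') :
    g = g' := by
  obtain ⟨u, hu, -, eu, hz⟩ := h.sec_data hy hyc hg
  obtain ⟨a, ha⟩ := has_zero hf hu
  exact (h.free (hy a)).uniq e (hz a ha).symm (hg'.2 a (by rw [← e, eu]; exact h.zero_commute hy hyc hu ha)).symm

theorem Over.sec_conj_short {g k : G} (hg : g ∈ h.sec yh) (hk : k ∈ h.sec yh) {u w : Fin 5 → F}
    (hu : herm u u = 0) (eg : π g = tv hf.hstar u hu) {a b : Fin 5} (hab : a ≠ b) (ha : u a ≠ 0)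
    (_hb : u b ≠ 0) (hz : ∀ i, i ≠ a → i ≠ b → u i = 0) (hw : herm w w = 0) (ek : π k = tv hf.hstar w hw)
    (hwa : w a = 0) : g * k * g ∈ h.sec yh := by
  have : ∀ a b : Fin 5, ∃ i, i ≠ a ∧ i ≠ b := by decide
  obtain ⟨c, hca, hcb⟩ := this a b
  have hgc : Commute g (yh c) := hg.2 c (eg ▸ h.zero_commute hy hyc hu (hz c hca hcb))
  have hgi : g⁻¹ = g := h.data.inv hg.1
  have e : g * yh a * g = yh b := by
    have hfc := h.free (hy c)
    refine hfc.uniq ?_ ((hgc.symm.mul_right (hyc c a)).mul_right hgc.symm) (hyc c b)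
    rw [map_mul, map_mul, hy, hy, eg]
    have h1 := (isY_Y hf a).conj hf (tv hf.hstar u hu)
    rw [inv_eq_of_mul_eq_one_right (tv_sq hf.hstar u hu)] at h1
    have hv : act (tv hf.hstar u hu) (Pi.single a 1) = (star (u a) * u b) • Pi.single b (1 : F) := by
      funext i
      rw [act_tv, herm_single_right, mul_one]
      rcases eq_or_ne i a with rfl | hia
      · simp [hab]
        linear_combination (hf.norm ha) + CharTwo.two_eq_zero (R := F)
      rcases eq_or_ne i b with rfl | hib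
      · simp [Ne.symm hab]
      · simp [hia, hib, hz i hia hib]
    rw [hv] at h1
    exact h1.unique ((isY_Y hf b).smul hf (mul_ne_zero (star_ne_zero.2 ha) _hb))
  have hc2 : Commute (g * k * g) (yh b) := by
    have h1 := (Commute.conj_iff g).2 (hk.2 a (ek ▸ h.zero_commute hy hyc hw hwa))
    rwa [hgi, e] at h1
  exact h.sec_of hy hyc (h.data.conj_self hg.1 hk.1) hc2

/-- the member over a long transvection centralises a further frame element -/
theorem Over.long_centralises {g : G} (hg : g ∈ h.sec yh) {u : Fin 5 → F} (hu : herm u u = 0)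
    (eg : π g = tv hf.hstar u hu) {i j k p l : Fin 5} (hn : [i, j, k, p, l].Nodup) (hl : u l = 0)
    (hne : ∀ x, x ≠ l → u x ≠ 0) {r : F} (hr : r ≠ 0) :
    ∃ z, IsY om (Pi.single i (u i) + Pi.single p (u p) + Pi.single l r) (π z) ∧ Free π z ∧
      Commute z (yh j) ∧ Commute z (yh k) ∧ Commute g z := by
  have hcov : ∀ x, x = i ∨ x = j ∨ x = k ∨ x = p ∨ x = l := by
    intro x
    have : [i, j, k, p, l].toFinset = Finset.univ := Finset.eq_univ_of_card _ (by
      rw [List.toFinset_card_of_nodup hn]; rfl)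
    have := Finset.ext_iff.1 this x
    simpa using this
  simp only [List.nodup_cons, List.mem_cons, List.mem_singleton, not_or, List.not_mem_nil, not_false_iff,
    and_true, List.nodup_nil] at hn
  obtain ⟨⟨hij, hik, hip, hil⟩, ⟨hjk, hjp, hjl⟩, ⟨hkp, hkl⟩, hpl⟩ := hn
  have h2 := CharTwo.two_eq_zero (R := F)
  set m : Fin 5 → F := Pi.single i (u i) + Pi.single p (u p) + Pi.single l r with hm
  have hmi : m i = u i := by simp [hm, hip, hil]
  have hmp : m p = u p := by simp [hm, Ne.symm hip, hpl]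
  have hml : m l = r := by simp [hm, Ne.symm hil, Ne.symm hpl]
  have hmj : m j = 0 := by simp [hm, Ne.symm hij, hjp, hjl]
  have hmk : m k = 0 := by simp [hm, Ne.symm hik, hkp, hkl]
  set c := r / u j with hc
  have huj : u j ≠ 0 := hne j hjl
  have hc0 : c ≠ 0 := div_ne_zero hr huj
  set x := sv j l c with hx
  have hxx : herm x x = 0 := sv_iso hf hjl hc0
  have hx0 : x ≠ 0 := fun h0 => by
    have := congrFun h0 j
    rw [hx, sv_apply_left hjl] at this
    exact one_ne_zero this
  have hxm : herm x m = u j := by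
    rw [hx, herm_sv_left, hmj, zero_add, hml, hc, star_div₀]
    have e1 := hf.norm hr
    have e2 := hf.norm huj
    field_simp [star_ne_zero.2 huj]
    linear_combination e1 - e2
  have hxu : herm x u = u j := by rw [hx, herm_sv_left, hl, mul_zero, add_zero]
  set q : Fin 5 → F := Pi.single k (u k) + m with hq
  have hqu : act (tv hf.hstar x hxx) u = q := by
    funext y
    rw [act_tv, hxu, hx]
    rcases hcov y with rfl | rfl | rfl | rfl | rfl
    · simp [hq, hmi, hik, sv_apply hij hil]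
    · simp [hq, hmj, hjk, sv_apply_left hjl]
      linear_combination (u y) * h2
    · simp [hq, hmk, sv_apply (Ne.symm hjk) hkl]
    · simp [hq, hmp, Ne.symm hkp, sv_apply (Ne.symm hjp) hpl]
    · simp [hq, hml, Ne.symm hkl, sv_apply_right hjl, hl, hc, mul_div_cancel₀ _ huj]
  have hqq : herm q q = 0 := by rw [← hqu, herm_act hf.hstar]; exact hu
  have hqk : q k = u k := by simp [hq, hmk]
  have hqj : q j = 0 := by simp [hq, hmj, hjk]
  have hq0 : q ≠ 0 := fun h0 => hne k hkl (by rw [← hqk, h0]; rfl)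
  obtain ⟨gx, hgx, egx⟩ := h.sec_exists hy hyc hxx hx0
  obtain ⟨gq, hgq, egq⟩ := h.sec_exists hy hyc hqq hq0
  have hgxi : gx⁻¹ = gx := h.data.inv hgx.1
  have hgqi : gq⁻¹ = gq := h.data.inv hgq.1
  have hconj : ∀ {v : Fin 5 → F} (hv : herm v v = 0), (tv hf.hstar v hv)⁻¹ = tv hf.hstar v hv :=
    fun hv => inv_eq_of_mul_eq_one_right (tv_sq hf.hstar _ hv)
  have hgeq : g = gx * gq * gx := by
    refine h.sec_unique hy hyc hg (h.sec_conj_short hy hyc hgx hgq hxx egx hjl
      (by rw [hx, sv_apply_left hjl]; exact one_ne_zero) (by rw [hx, sv_apply_right hjl]; exact hc0)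
      (fun y h1 h2 => by rw [hx, sv_apply h1 h2]) hqq egq hqj) ?_
    rw [eg, map_mul, map_mul, egx, egq]
    have := tv_conj hf.hstar (tv hf.hstar x hxx) q hqq
    rw [hconj] at this
    rw [this]
    refine tv_congr hf.hstar ?_ _ _
    rw [← hqu, ← act_mul, tv_sq, act_one]
  have hgxk : Commute gx (yh k) :=
    hgx.2 k (egx ▸ h.zero_commute hy hyc hxx (by rw [hx]; exact sv_apply (Ne.symm hjk) hkl c))
  have hgqj : Commute gq (yh j) := hgq.2 j (egq ▸ h.zero_commute hy hyc hqq hqj)
  have hYm : IsY om m (π (gq * yh k * gq)) := by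
    rw [map_mul, map_mul, egq, hy]
    have h1 := (isY_Y hf k).conj hf (tv hf.hstar q hqq)
    rw [hconj, show act (tv hf.hstar q hqq) (Pi.single k 1) = star (u k) • m by
      funext y
      rw [act_tv, herm_single_right, mul_one, hqk]
      rcases eq_or_ne y k with rfl | hy'
      · simp [hqk, hmk]
        linear_combination (hf.norm (hne y hkl)) + h2
      · simp [hq, hy']] at h1
    have h3 := h1.smul hf (hne k hkl)
    rwa [smul_smul, hf.norm' (hne k hkl), one_smul] at h3
  obtain ⟨z, hz⟩ : ∃ z, z = gq * yh k * gq := ⟨_, rfl⟩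
  rw [← hz] at hYm
  have hzF : Free π z := by
    have := (h.free (hy k)).conj gq
    rwa [hgqi, ← hz] at this
  have hzj : Commute z (yh j) := hz ▸ (hgqj.mul_left (hyc k j)).mul_left hgqj
  have hmk0 : herm m (Pi.single k (1 : F)) = 0 := by rw [herm_single_right, hmk, star_zero, zero_mul]
  have hzk : Commute z (yh k) :=
    (h.free (hy j)).commute (by rw [hy]; exact hYm.commute hf (isY_Y hf k) hmk0) hzj.symm (hyc j k)
  set m' := act (tv hf.hstar x hxx) m with hm'
  have hm'eq : m' = m + u j • x := by rw [hm', act_tv, hxm]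
  obtain ⟨y', hy'⟩ : ∃ y', y' = gx * z * gx := ⟨_, rfl⟩
  have hYm' : IsY om m' (π y') := by
    have h1 := hYm.conj hf (tv hf.hstar x hxx)
    rw [hconj, ← hm'] at h1
    rw [hy', map_mul, map_mul, egx]
    exact h1
  have hy'k : Commute y' (yh k) := hy' ▸ (hgxk.mul_left hzk).mul_left hgxk
  have hmm : herm m m = 1 := by
    conv_lhs => rw [hm, herm_add_left, herm_add_left, herm_single_left, herm_single_left, herm_single_left,
      ← hm, hmi, hmp, hml, hf.norm (hne i hil), hf.norm (hne p hpl), hf.norm hr]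
    linear_combination h2
  have hy'z : Commute y' z := by
    refine (h.free (hy k)).commute ?_ hy'k.symm hzk.symm
    refine hYm'.commute hf hYm ?_
    rw [hm'eq, herm_add_left, herm_smul_left, hxm, hmm, hf.norm huj, CharTwo.add_self_eq_zero]
  have hqy : Commute gq y' := by
    have hqi : ∀ v, herm q v = star (u k) * v k + herm m v := fun v => by
      rw [hq, herm_add_left, herm_single_left]
    have hqm' : herm q m' = 0 := by
      have hxk : x k = 0 := by rw [hx]; exact sv_apply (Ne.symm hjk) hkl c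
      rw [hqi, hm'eq, herm_add_right, herm_smul_right, hmm, ← star_herm x m, hxm]
      simp only [Pi.add_apply, Pi.smul_apply, smul_eq_mul, hmk, hxk, mul_zero, add_zero, zero_add]
      rw [hf.norm' huj, CharTwo.add_self_eq_zero]
    have e : gq * y' * gq = y' := by
      have hgqq : gq * gq = 1 := h.data.sq hgq.1
      refine (h.free (hy k)).uniq ?_ ?_ hy'k.symm
      · rw [map_mul, map_mul, egq, ← (hYm'.commute_tv hf hqq hqm').eq, mul_assoc, tv_sq, mul_one]
      · have h1 := (Commute.conj_iff gq).2 hy'z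
        rw [hgqi, hz] at h1
        have e2 : gq * (gq * yh k * gq) * gq = yh k := by
          calc gq * (gq * yh k * gq) * gq = (gq * gq) * yh k * (gq * gq) := by simp only [mul_assoc]
            _ = yh k := by rw [hgqq, one_mul, mul_one]
        rw [e2] at h1
        exact h1.symm
    show gq * y' = y' * gq
    calc gq * y' = gq * y' * (gq * gq) := by rw [h.data.sq hgq.1, mul_one]
      _ = (gq * y' * gq) * gq := by simp only [mul_assoc]
      _ = y' * gq := by rw [e]
  refine ⟨z, hYm, hzF, hzj, hzk, ?_⟩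
  have h1 := (Commute.conj_iff gx).2 hqy
  rw [hgxi, ← hgeq, hy'] at h1
  have e2 : gx * (gx * z * gx) * gx = z := by
    calc gx * (gx * z * gx) * gx = (gx * gx) * z * (gx * gx) := by simp only [mul_assoc]
      _ = z := by rw [h.data.sq hgx.1, one_mul, mul_one]
  rwa [e2] at h1

/-- the section is closed under conjugation by its members -/
theorem Over.sec_conj {g k : G} (hg : g ∈ h.sec yh) (hk : k ∈ h.sec yh) : g * k * g ∈ h.sec yh := by
  obtain ⟨u, hu, hu0, eg, hgz⟩ := h.sec_data hy hyc hg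
  obtain ⟨w, hw, hw0, ek, hkz⟩ := h.sec_data hy hyc hk
  rcases commute_or_braid h.data.cls.1 hg.1 hk.1 with hcm | hbr
  · rw [hcm.eq, mul_assoc, h.data.sq hg.1, mul_one]; exact hk
  by_cases hcz : ∃ a, u a = 0 ∧ w a = 0
  · obtain ⟨a, hua, hwa⟩ := hcz
    exact h.sec_of hy hyc (h.data.conj_self hg.1 hk.1)
      (((hgz a hua).mul_left (hkz a hwa)).mul_left (hgz a hua))
  push Not at hcz
  have hshort : ∀ {g k : G} {u w : Fin 5 → F}, g ∈ h.sec yh → k ∈ h.sec yh → ∀ (hu : herm u u = 0)
      (hw : herm w w = 0), π g = tv hf.hstar u hu → π k = tv hf.hstar w hw →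
      (∀ a, u a = 0 → w a ≠ 0) → (∃ a b, a ≠ b ∧ u a ≠ 0 ∧ u b ≠ 0 ∧ ∀ i, i ≠ a → i ≠ b → u i = 0) →
      g * k * g ∈ h.sec yh := by
    intro g k u w hg hk hu hw eg ek hcz hs
    obtain ⟨a, b, hab, ha, hb, hz⟩ := hs
    obtain ⟨i, hi⟩ := has_zero hf hw
    rcases eq_or_ne i a with rfl | hia
    · exact h.sec_conj_short hy hyc hg hk hu eg hab ha hb hz hw ek hi
    rcases eq_or_ne i b with rfl | hib
    · exact h.sec_conj_short hy hyc hg hk hu eg (Ne.symm hab) hb ha (fun y h1 h2 => hz y h2 h1) hw ek hi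
    exact absurd hi (hcz i (hz i hia hib))
  rcases classify hf hu with h0 | hs | ⟨l, hl, hne⟩
  · exact absurd h0 hu0
  · exact hshort hg hk hu hw eg ek hcz hs
  rcases classify hf hw with h0 | hs | ⟨p, hp, hnew⟩
  · exact absurd h0 hw0
  · rw [hbr]
    exact hshort hk hg hw hu ek eg (fun a ha hua => hcz a hua ha) hs
  have hlp : l ≠ p := fun e => hcz l hl (e ▸ hp)
  have hnc : herm u w ≠ 0 := by
    intro h0
    have hc : Commute g k :=
      h.data.lift_commute hg.1 hk.1 (by rw [eg, ek]; exact tv_commute hf.hstar hu hw h0)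
    have e1 : g * k * g = k := by rw [hc.eq, mul_assoc, h.data.sq hg.1, mul_one]
    have e2 : k * g * k = g := by rw [← hc.eq, mul_assoc, h.data.sq hk.1, mul_one]
    have e3 : k = g := by rw [← e1, hbr, e2]
    have e4 : π g = π k := by rw [e3]
    obtain ⟨y, hy'⟩ := Cfsg.Agent.Classical.URoot.exists_herm_one hu0
    have := congrArg (fun t => act t y) e4
    simp only [eg, ek, act_tv, hy', one_smul, add_right_inj] at this
    exact hne p hlp.symm (by rw [this]; simp [hp])
  have hex : ∀ l p : Fin 5, l ≠ p → ∃ a b c, [a, b, c, p, l].Nodup := by decide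
  obtain ⟨a, b, c, hn⟩ := hex l p hlp
  have hcov : ∀ x, x = a ∨ x = b ∨ x = c ∨ x = p ∨ x = l := by
    intro x
    have : [a, b, c, p, l].toFinset = Finset.univ := Finset.eq_univ_of_card _ (by
      rw [List.toFinset_card_of_nodup hn]; rfl)
    have := Finset.ext_iff.1 this x
    simpa using this
  have hterm : ∀ x, x ≠ l → x ≠ p → star (u x) * w x ≠ 0 := fun x hxl hxp =>
    mul_ne_zero (star_ne_zero.2 (hne x hxl)) (hnew x hxp)
  obtain ⟨i, j, k', hn', hijeq⟩ : ∃ i j k' : Fin 5, [i, j, k', p, l].Nodup ∧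
      star (u i) * w i = star (u j) * w j := by
    have hsum : herm u w = star (u a) * w a + star (u b) * w b + star (u c) * w c := by
      have hperm : Finset.univ = [a, b, c, p, l].toFinset := (Finset.eq_univ_of_card _ (by
        rw [List.toFinset_card_of_nodup hn]; rfl)).symm
      show ∑ x, star (u x) * w x = _
      rw [hperm, List.sum_toFinset _ hn]
      simp [hl, hp, add_assoc]
    have hn2 : [a, c, b, p, l].Nodup ∧ [b, c, a, p, l].Nodup := by simp at hn ⊢; grind
    by_contra! hno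
    have hab := hno a b c hn
    have hac := hno a c b hn2.1
    have hbc := hno b c a hn2.2
    have hal : a ≠ l ∧ a ≠ p ∧ b ≠ l ∧ b ≠ p ∧ c ≠ l ∧ c ≠ p := by simp at hn; grind
    refine hnc ?_
    rw [hsum]
    have hq := hf.quad
    rcases hf.mem (star (u a) * w a) with e1 | e1 | e1 | e1 <;>
    rcases hf.mem (star (u b) * w b) with e2 | e2 | e2 | e2 <;>
    rcases hf.mem (star (u c) * w c) with e3 | e3 | e3 | e3 <;>
    first
      | exact absurd e1 (hterm a hal.1 hal.2.1)
      | exact absurd e2 (hterm b hal.2.2.1 hal.2.2.2.1)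
      | exact absurd e3 (hterm c hal.2.2.2.2.1 hal.2.2.2.2.2)
      | exact absurd (e1.trans e2.symm) hab
      | exact absurd (e1.trans e3.symm) hac
      | exact absurd (e2.trans e3.symm) hbc
      | (rw [e1, e2, e3]; linear_combination hq)
  have hne5 : i ≠ l ∧ i ≠ p ∧ j ≠ l ∧ j ≠ p ∧ k' ≠ l ∧ k' ≠ p ∧ i ≠ j ∧ i ≠ k' ∧ j ≠ k' := by
    simp at hn'; grind
  obtain ⟨hil, hip, hjl, hjp, hkl, hkp, hij, hik, hjk⟩ := hne5
  have hperm' : [i, j, k', l, p].Nodup := by simp at hn' ⊢; grind
  set σ := w i / u i with hσ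
  have hui : u i ≠ 0 := hne i hil
  have hσ0 : σ ≠ 0 := div_ne_zero (hnew i hip) hui
  obtain ⟨z, hYz, hzF, hzj, hzk, hzg⟩ :=
    h.long_centralises hy hyc hg hu eg hn' hl hne (r := w l / σ) (div_ne_zero (hnew l hlp) hσ0)
  obtain ⟨z', hYz', -, hz'j, -, hz'k⟩ :=
    h.long_centralises hy hyc hk hw ek hperm' hp hnew (r := σ * u p) (mul_ne_zero hσ0 (hne p hlp.symm))
  have hzz : z' = z := by
    refine (h.free (hy j)).uniq ?_ hz'j.symm hzj.symm
    have hsm : σ • (Pi.single i (u i) + Pi.single p (u p) + Pi.single l (w l / σ)) =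
        (Pi.single i (w i) + Pi.single l (w l) + Pi.single p (σ * u p) : Fin 5 → F) := by
      funext y
      simp only [Pi.smul_apply, Pi.add_apply, smul_eq_mul, mul_add]
      rcases eq_or_ne y i with rfl | hyi
      · simp [hip, hil, hσ, div_mul_cancel₀ _ hui]
      rcases eq_or_ne y p with rfl | hyp
      · simp [hyi, hlp.symm]
      rcases eq_or_ne y l with rfl | hyl
      · simp [hyi, hyp, mul_div_cancel₀ _ hσ0]
      · simp [hyi, hyp, hyl]
    exact hYz'.unique (hsm ▸ hYz.smul hf hσ0)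
  rw [hzz] at hz'k
  have hgkg : Commute (g * k * g) z := (hzg.mul_left hz'k).mul_left hzg
  have hr : π (g * k * g) = tv hf.hstar (act (tv hf.hstar u hu) w) (by rw [herm_act hf.hstar]; exact hw) := by
    rw [map_mul, map_mul, eg, ek, ← tv_conj, inv_eq_of_mul_eq_one_right (tv_sq hf.hstar u hu)]
  have hrk : act (tv hf.hstar u hu) w k' = 0 := by
    rw [act_tv, Pi.add_apply, Pi.smul_apply, smul_eq_mul]
    have hperm : Finset.univ = [i, j, k', p, l].toFinset := (Finset.eq_univ_of_card _ (by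
      rw [List.toFinset_card_of_nodup hn']; rfl)).symm
    have hsum : herm u w = star (u i) * w i + star (u j) * w j + star (u k') * w k' := by
      show ∑ x, star (u x) * w x = _
      rw [hperm, List.sum_toFinset _ hn']
      simp [hl, hp, add_assoc]
    rw [hsum, hijeq, CharTwo.add_self_eq_zero, zero_add, mul_right_comm, hf.norm (hne k' hkl), one_mul,
      CharTwo.add_self_eq_zero]
  have hr0 : act (tv hf.hstar u hu) w ≠ 0 := fun h0 => hw0 (act_injective _ (h0.trans (by simp [act])))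
  obtain ⟨e, he, hee⟩ := h.sec_exists hy hyc _ hr0
  have hek : Commute e (yh k') :=
    he.2 k' (hee ▸ h.zero_commute hy hyc (by rw [herm_act hf.hstar]; exact hw) hrk)
  have hez : Commute e z := by
    refine (h.free (hy k')).commute ?_ hek.symm hzk.symm
    rw [hee, ← hr]
    exact hgkg.map π
  rw [hzF.uniq (hr.trans hee.symm) hgkg.symm hez.symm]
  exact he

/-- Hence a complement of the kernel modulo what is central. -/
theorem Over.complement (hstem : ∀ (X : Subgroup G) (ξ : ↥X →* Cfsg.SU 5 F 2), Function.Surjective ξ →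
      ξ.ker ≤ Subgroup.center ↥X → commutator ↥X ⊓ ξ.ker = ⊥) :
    ∃ K : Subgroup G, π.ker.IsComplement' K := by
  set X := Subgroup.closure (h.sec yh) with hX
  set ξ := π.comp X.subtype with hξ
  have hstab : ∀ g ∈ h.sec yh, ∀ k ∈ h.sec yh, g * k * g⁻¹ ∈ h.sec yh := fun g hg k hk => by
    rw [h.data.inv hg.1]; exact h.sec_conj hy hyc hg hk
  have hXn : ∀ x ∈ X, ∀ k ∈ h.sec yh, x * k * x⁻¹ ∈ h.sec yh := by
    intro x hx
    induction hx using Subgroup.closure_induction with
    | mem g hg => exact hstab g hg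
    | one => intro k hk; simpa using hk
    | mul a b _ _ iha ihb =>
      intro k hk
      have := iha _ (ihb k hk)
      simpa [mul_assoc, _root_.mul_inv_rev] using this
    | inv a _ iha =>
      intro k hk
      obtain ⟨⟨p, hp⟩, e⟩ := Finite.injective_iff_surjective.1
        (show Function.Injective (fun k : h.sec yh => (⟨_, iha k.1 k.2⟩ : h.sec yh)) from
          fun p q e => Subtype.ext (by simpa using congrArg Subtype.val e)) ⟨k, hk⟩
      have e' : a * p * a⁻¹ = k := congrArg Subtype.val e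
      rw [← e']
      simpa [mul_assoc] using hp
  have hsurj : Function.Surjective ξ := by
    intro s
    have hle : Subgroup.closure (π '' D) ≤ X.map π := (Subgroup.closure_le _).2 fun t ht => by
      obtain ⟨v, hv, hv0, rfl⟩ := (Set.ext_iff.1 h.img t).1 ht
      obtain ⟨g, hg, e⟩ := h.sec_exists hy hyc hv hv0
      exact ⟨g, Subgroup.subset_closure hg, e⟩
    rw [← MonoidHom.map_closure, h.data.cls.2.2, Subgroup.map_top_of_surjective _ h.data.surj] at hle
    obtain ⟨g, hg, e⟩ := hle (Subgroup.mem_top s)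
    exact ⟨⟨g, hg⟩, e⟩
  have hcen : ξ.ker ≤ Subgroup.center ↥X := by
    intro v hv
    refine Subgroup.mem_center_iff.2 fun y => Subtype.ext ?_
    have hle : X ≤ Subgroup.centralizer ({v.1} : Set G) := (Subgroup.closure_le _).2 fun g hg => by
      refine Subgroup.mem_centralizer_singleton_iff.2 ?_
      have h1 := h.sec_unique hy hyc (hXn v.1 v.2 g hg) hg (by
        rw [map_mul, map_mul, map_inv, show π v.1 = 1 from hv, one_mul, inv_one, mul_one])
      exact (mul_inv_eq_iff_eq_mul.1 h1).symm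
    exact Subgroup.mem_centralizer_singleton_iff.1 (hle y.2)
  refine ⟨(commutator ↥X).map X.subtype, ?_⟩
  have hdis : Disjoint π.ker ((commutator ↥X).map X.subtype) := by
    rw [disjoint_iff, eq_bot_iff]
    rintro _ ⟨hk, y, hy', rfl⟩
    have h0 := (Subgroup.eq_bot_iff_forall _).1 (hstem X ξ hsurj hcen) y ⟨hy', hk⟩
    rw [h0]
    exact one_mem _
  refine Subgroup.isComplement'_of_disjoint_and_mul_eq_univ hdis ?_
  refine Set.eq_univ_of_forall fun g => ?_
  have hm : (commutator ↥X).map ξ = ⊤ := by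
    rw [commutator_def, Subgroup.map_commutator, Subgroup.map_top_of_surjective _ hsurj]; exact h.data.perf
  obtain ⟨y, hy', e⟩ := (hm.symm ▸ Subgroup.mem_top (π g) : π g ∈ (commutator ↥X).map ξ)
  exact ⟨g * y.1⁻¹, by
    rw [SetLike.mem_coe, MonoidHom.mem_ker, map_mul, map_inv, show π y.1 = π g from e, mul_inv_cancel],
    y.1, ⟨y, hy', rfl⟩, inv_mul_cancel_right g y.1⟩

end Cfsg.Agent.Spor.UnitaryFive
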