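import Cfsg.Agent.Lib.Spor.UnitaryFiveInvol

/-!
The unitary group in dimension five over the field with four elements on the standard orthonormal
frame: diagonal elements, short isotropic vectors and the five points of an isotropic line.
-/

set_option autoImplicit false
set_option linter.unusedSectionVars false
set_option linter.unusedSimpArgs false

namespace Cfsg.Agent.Spor.UnitaryFive

open Matrix Cfsg.Agent.Small Cfsg.Agent.Small.Unitary Cfsg.Agent.Spor.UnitaryTrans

variable {F : Type} [Field F] [Fintype F] [DecidableEq F] [StarRing F] [CharP F 2]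

/-- what is fixed about the field: conjugation is squaring, there are four elements, `om` is a cube root of unity -/
structure Four (om : F) : Prop where
  hstar : ∀ x : F, star x = x ^ 2
  card : Fintype.card F = 4
  quad : om ^ 2 + om + 1 = 0

theorem exists_four (hstar : ∀ x : F, star x = x ^ 2) (hF : Fintype.card F = 4) : ∃ om : F, Four om := by
  obtain ⟨om, hom0, hom1⟩ : ∃ om : F, om ≠ 0 ∧ om ≠ 1 := by
    by_contra! hall
    have h4 : Fintype.card F ≤ 2 := by
      rw [← Finset.card_univ]
      exact le_trans (Finset.card_le_card (fun c _ => by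
        rcases eq_or_ne c 0 with rfl | hc
        · simp
        · simp [hall c hc] : (Finset.univ : Finset F) ⊆ {0, 1})) Finset.card_le_two
    omega
  have hs3 : star om * om = 1 := star_mul_self_eq_one hstar hF hom0
  rw [hstar, ← pow_succ] at hs3
  have : (om - 1) * (om ^ 2 + om + 1) = 0 := by linear_combination hs3
  exact ⟨om, hstar, hF, (mul_eq_zero.1 this).resolve_left (sub_ne_zero.2 hom1)⟩

variable {om : F} (hf : Four om)
include hf

theorem Four.cube : om ^ 3 = 1 := by linear_combination (om - 1) * hf.quad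

theorem Four.om_ne_zero : om ≠ 0 := fun h => by simpa [h] using hf.quad

theorem Four.om_ne_one : om ≠ 1 := fun h => by
  have := hf.quad
  rw [h] at this
  exact one_ne_zero (show (1 : F) = 0 by linear_combination this - CharTwo.two_eq_zero (R := F))

theorem Four.norm {c : F} (hc : c ≠ 0) : star c * c = 1 := star_mul_self_eq_one hf.hstar hf.card hc

theorem Four.norm' {c : F} (hc : c ≠ 0) : c * star c = 1 := by rw [mul_comm]; exact hf.norm hc

theorem Four.mem (x : F) : x = 0 ∨ x = 1 ∨ x = om ∨ x = om ^ 2 := by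
  by_contra! hne
  obtain ⟨h0, h1, h2, h3⟩ := hne
  have hn : x ^ 3 = 1 := by
    have := hf.norm h0
    rw [hf.hstar] at this
    linear_combination this
  have : (x - 1) * ((x - om) * (x - om ^ 2)) = 0 := by
    linear_combination hn + (-(x ^ 2) + x) * hf.quad + (x - 1) * hf.cube
  simp [sub_eq_zero, h1, h2, h3] at this

omit hf

/-- the cube root of unity with a given exponent -/
def ee (om : F) : ZMod 3 → F := ![1, om, om ^ 2]

include hf

theorem ee_eq (a : ZMod 3) : ee om a = om ^ a.val := by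
  fin_cases a
  · exact (pow_zero om).symm
  · exact (pow_one om).symm
  · rfl

theorem ee_add (a b : ZMod 3) : ee om (a + b) = ee om a * ee om b := by
  rw [ee_eq hf, ee_eq hf, ee_eq hf, ← pow_add, ZMod.val_add, ← pow_eq_pow_mod _ hf.cube]

theorem ee_zero : ee om 0 = 1 := rfl

theorem ee_ne_zero (a : ZMod 3) : ee om a ≠ 0 := by
  fin_cases a <;> simp [ee, hf.om_ne_zero]

theorem ee_inj {a : ZMod 3} (h : ee om a = 1) : a = 0 := by
  fin_cases a
  · rfl
  · exact absurd h hf.om_ne_one
  · refine absurd ?_ hf.om_ne_one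
    have h2 : om ^ 2 = 1 := h
    linear_combination hf.cube - om * h2

theorem ee_sum (k : Fin 5 → ZMod 3) : ee om (∑ i, k i) = ∏ i, ee om (k i) := by
  simp only [Fin.sum_univ_five, Fin.prod_univ_five, ee_add hf]

/-- the diagonal element with given exponents -/
noncomputable def dg (k : Fin 5 → ZMod 3) : Cfsg.SU 5 F 2 :=
  if h : ∑ i, k i = 0 then
    mkSU hf.hstar (Matrix.diagonal fun i => ee om (k i))
      (by
        rw [Matrix.diagonal_conjTranspose, Matrix.diagonal_mul_diagonal, ← Matrix.diagonal_one]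
        refine congrArg Matrix.diagonal (funext fun i => ?_)
        exact hf.norm (ee_ne_zero hf (k i)))
      (by rw [Matrix.det_diagonal, ← ee_sum hf, h, ee_zero hf])
  else 1

theorem act_dg {k : Fin 5 → ZMod 3} (h : ∑ i, k i = 0) (x : Fin 5 → F) (i : Fin 5) :
    act (dg hf k) x i = ee om (k i) * x i := by
  rw [dg, dif_pos h]
  exact Matrix.mulVec_diagonal _ _ _

theorem dg_mul {k l : Fin 5 → ZMod 3} (hk : ∑ i, k i = 0) (hl : ∑ i, l i = 0) :
    dg hf k * dg hf l = dg hf (k + l) := by
  have hkl : ∑ i, (k + l) i = 0 := by simp [Finset.sum_add_distrib, hk, hl]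
  refine Cfsg.Agent.Classical.URoot.eq_of_act fun x => funext fun i => ?_
  rw [act_mul, act_dg hf hk, act_dg hf hl, act_dg hf hkl, Pi.add_apply, ee_add hf, mul_assoc]

theorem dg_zero : dg hf (0 : Fin 5 → ZMod 3) = 1 := by
  refine Cfsg.Agent.Classical.URoot.eq_of_act fun x => funext fun i => ?_
  rw [act_dg hf (by simp), act_one, Pi.zero_apply, ee_zero hf, one_mul]

theorem dg_comm {k l : Fin 5 → ZMod 3} (hk : ∑ i, k i = 0) (hl : ∑ i, l i = 0) :
    Commute (dg hf k) (dg hf l) := by
  show _ = _
  rw [dg_mul hf hk hl, dg_mul hf hl hk, add_comm]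

omit hf

/-- exponents of `X a b` -/
def xk (a b : Fin 5) : Fin 5 → ZMod 3 := Pi.single a 1 - Pi.single b 1

/-- exponents of `Y a` -/
def yk (a : Fin 5) : Fin 5 → ZMod 3 := 1 + Pi.single a 1

theorem sum_xk (a b : Fin 5) : ∑ i, xk a b i = 0 := by revert a b; decide

theorem sum_yk (a : Fin 5) : ∑ i, yk a i = 0 := by revert a; decide

theorem yk_eq : ∀ a b l c d : Fin 5, [a, b, l, c, d].Nodup →
    yk a = xk b l + xk d l + (xk a d + xk a d + xk c d) := by
  unfold yk xk
  decide

include hf

/-- `om` at `a`, its inverse at `b` -/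
noncomputable def X (a b : Fin 5) : Cfsg.SU 5 F 2 := dg hf (xk a b)

/-- the inverse of `om` at `a`, `om` elsewhere -/
noncomputable def Y (a : Fin 5) : Cfsg.SU 5 F 2 := dg hf (yk a)

theorem X_comm (a b c d : Fin 5) : Commute (X hf a b) (X hf c d) := dg_comm hf (sum_xk a b) (sum_xk c d)

theorem X_Y_comm (a b c : Fin 5) : Commute (X hf a b) (Y hf c) := dg_comm hf (sum_xk a b) (sum_yk c)

theorem Y_comm (a b : Fin 5) : Commute (Y hf a) (Y hf b) := dg_comm hf (sum_yk a) (sum_yk b)

theorem X_mul (a b c : Fin 5) : X hf a b * X hf b c = X hf a c := by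
  rw [X, X, X, dg_mul hf (sum_xk a b) (sum_xk b c)]
  congr 1
  unfold xk
  abel

theorem X_self (a : Fin 5) : X hf a a = 1 := by
  rw [X, show xk a a = 0 from sub_self _, dg_zero hf]

theorem X_cube (a b : Fin 5) : X hf a b ^ 3 = 1 := by
  have h2 : ∑ i, (xk a b + xk a b) i = 0 := by simp [Finset.sum_add_distrib, sum_xk]
  rw [pow_succ, pow_two, X, dg_mul hf (sum_xk a b) (sum_xk a b), dg_mul hf h2 (sum_xk a b), ← dg_zero hf]
  congr 1
  funext i
  simp only [Pi.add_apply, Pi.zero_apply]
  generalize xk a b i = t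
  revert t
  decide

theorem Y_eq {a b l c d : Fin 5} (h : [a, b, l, c, d].Nodup) :
    Y hf a = X hf b l * X hf d l * (X hf a d * X hf a d * X hf c d) := by
  have hs : ∀ {k l' : Fin 5 → ZMod 3}, ∑ i, k i = 0 → ∑ i, l' i = 0 → ∑ i, (k + l') i = 0 :=
    fun h1 h2 => by simp [Finset.sum_add_distrib, h1, h2]
  rw [X, X, X, X, dg_mul hf (sum_xk _ _) (sum_xk _ _), dg_mul hf (sum_xk _ _) (sum_xk _ _),
    dg_mul hf (hs (sum_xk _ _) (sum_xk _ _)) (sum_xk _ _),
    dg_mul hf (hs (sum_xk _ _) (sum_xk _ _)) (hs (hs (sum_xk _ _) (sum_xk _ _)) (sum_xk _ _)), Y,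
    yk_eq a b l c d h]

omit hf

/-- the short isotropic vector -/
def sv (a b : Fin 5) (l : F) : Fin 5 → F := Pi.single a 1 + Pi.single b l

theorem herm_sv_right (z : Fin 5 → F) (a b : Fin 5) (l : F) :
    herm z (sv a b l) = star (z a) + star (z b) * l := by
  rw [sv, herm_add_right, herm_single_right, herm_single_right, mul_one]

theorem herm_sv_left (z : Fin 5 → F) (a b : Fin 5) (l : F) :
    herm (sv a b l) z = z a + star l * z b := by
  rw [sv, herm_add_left, herm_single_left, herm_single_left, star_one, one_mul]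

theorem sv_apply_left {a b : Fin 5} (h : a ≠ b) (l : F) : sv a b l a = 1 := by simp [sv, h]

theorem sv_apply_right {a b : Fin 5} (h : a ≠ b) (l : F) : sv a b l b = l := by simp [sv, h.symm]

theorem sv_apply {a b i : Fin 5} (ha : i ≠ a) (hb : i ≠ b) (l : F) : sv a b l i = 0 := by simp [sv, ha, hb]

include hf

theorem sv_iso {a b : Fin 5} (h : a ≠ b) {l : F} (hl : l ≠ 0) : herm (sv a b l) (sv a b l) = 0 := by
  rw [herm_sv_left, sv_apply_left h, sv_apply_right h, hf.norm hl, CharTwo.add_self_eq_zero]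

theorem X_eq_tv {a b : Fin 5} (h : a ≠ b) :
    X hf a b = tv hf.hstar _ (sv_iso hf h (one_ne_zero)) * tv hf.hstar _ (sv_iso hf h hf.om_ne_zero) := by
  refine Cfsg.Agent.Classical.URoot.eq_of_act fun x => funext fun i => ?_
  have h2 := CharTwo.two_eq_zero (R := F)
  have hn := hf.norm' hf.om_ne_zero
  rw [X, act_dg hf (sum_xk a b), act_mul, act_tv, act_tv]
  simp only [Pi.add_apply, Pi.smul_apply, smul_eq_mul, herm_sv_left, sv_apply_left h, sv_apply_right h, star_one]
  have hso : star om = om ^ 2 := hf.hstar om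
  rcases eq_or_ne i a with rfl | ha
  · rw [sv_apply_left h, show xk i b i = 1 by simp [xk, h], show ee om 1 = om from rfl, sv_apply_left h]
    linear_combination (-(2 * x i + star om * x b + x b)) * h2 + (-x b) * hn
  rcases eq_or_ne i b with rfl | hb
  · rw [sv_apply_right h, show xk a i i = 2 by simp [xk, h.symm]; decide, show ee om 2 = om ^ 2 from rfl,
      sv_apply_right h, ← hso]
    linear_combination (-(om * x a + (1 + om * star om) * x i + x a)) * h2
  · rw [sv_apply ha hb, sv_apply ha hb, show xk a b i = 0 by simp [xk, ha, hb], ee_zero hf]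
    ring

/-- an isotropic vector has two or four non-zero coordinates -/
theorem classify {u : Fin 5 → F} (hu : herm u u = 0) :
    u = 0 ∨ (∃ a b, a ≠ b ∧ u a ≠ 0 ∧ u b ≠ 0 ∧ ∀ i, i ≠ a → i ≠ b → u i = 0) ∨
      ∃ l, u l = 0 ∧ ∀ i, i ≠ l → u i ≠ 0 := by
  classical
  set s := Finset.univ.filter fun i => u i ≠ 0 with hs
  have hcard : (s.card : F) = 0 := by
    rw [← hu, hs, Finset.natCast_card_filter]
    show _ = star u ⬝ᵥ u
    refine Finset.sum_congr rfl fun i _ => ?_
    split_ifs with h
    · exact (hf.norm h).symm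
    · rw [not_not.1 h, mul_zero]
  rw [CharP.cast_eq_zero_iff F 2] at hcard
  have hle : s.card ≤ 5 := le_trans (Finset.card_le_univ s) (by simp)
  obtain h | h | h : s.card = 0 ∨ s.card = 2 ∨ s.card = 4 := by omega
  · refine Or.inl (funext fun i => by_contra fun hi => ?_)
    rw [Finset.card_eq_zero] at h
    exact Finset.notMem_empty i (h ▸ Finset.mem_filter.2 ⟨Finset.mem_univ i, hi⟩)
  · obtain ⟨a, b, hab, e⟩ := Finset.card_eq_two.1 h
    have hm : ∀ i, u i ≠ 0 ↔ i = a ∨ i = b := fun i => by
      simpa [hs] using Finset.ext_iff.1 e i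
    exact Or.inr (Or.inl ⟨a, b, hab, (hm a).2 (Or.inl rfl), (hm b).2 (Or.inr rfl),
      fun i ha hb => by_contra fun hi => ((hm i).1 hi).elim ha hb⟩)
  · obtain ⟨l, e⟩ : ∃ l, sᶜ = {l} := Finset.card_eq_one.1 (by rw [Finset.card_compl]; simp [h])
    have hm : ∀ i, u i = 0 ↔ i = l := fun i => by
      simpa [hs] using Finset.ext_iff.1 e i
    exact Or.inr (Or.inr ⟨l, (hm l).2 rfl, fun i hi h0 => hi ((hm i).1 h0)⟩)

theorem has_zero {u : Fin 5 → F} (hu : herm u u = 0) : ∃ i, u i = 0 := by
  rcases classify hf hu with h | ⟨a, b, -, -, -, h⟩ | ⟨l, h, -⟩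
  · exact ⟨0, by rw [h]; rfl⟩
  · have : ∀ a b : Fin 5, ∃ i, i ≠ a ∧ i ≠ b := by decide
    obtain ⟨i, ha, hb⟩ := this a b
    exact ⟨i, h i ha hb⟩
  · exact ⟨l, h⟩

/-- the five points of a totally isotropic line give transvections with product one -/
theorem line {p q : Fin 5 → F} (hp : herm p p = 0) (hq : herm q q = 0) (hpq : herm p q = 0)
    (h1 : herm (p + q) (p + q) = 0) (h2 : herm (p + om • q) (p + om • q) = 0)
    (h3 : herm (p + om ^ 2 • q) (p + om ^ 2 • q) = 0) :
    tv hf.hstar p hp * tv hf.hstar q hq * tv hf.hstar _ h1 * tv hf.hstar _ h2 * tv hf.hstar _ h3 = 1 := by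
  refine Cfsg.Agent.Classical.URoot.eq_of_act fun x => ?_
  have h2' := CharTwo.two_eq_zero (R := F)
  have hqp : herm q p = 0 := by rw [← star_herm p q, hpq, star_zero]
  have hqd := hf.quad
  funext i
  simp [act_mul, act_tv, act_one, herm_add_left, herm_add_right, herm_smul_left, herm_smul_right,
    hp, hq, hpq, hqp, hf.hstar om]
  linear_combination
    (herm p x * p i * 2 + herm q x * q i * 2) * h2' +
    (herm q x * p i * (1 + om * (om - 1)) + herm p x * q i +
      herm q x * q i * (om - 1) * (om ^ 3 + 2)) * hqd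

end Cfsg.Agent.Spor.UnitaryFive
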