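import Cfsg.Agent.Lib.Spor.UnitaryTransvection

/-!
The unitary group in dimension seven over the field with four elements: the transvections are the only
involutions all of whose conjugates give products of order at most three, any two non-commuting
transvections reach all others, and five commuting ones have product one.
-/

set_option autoImplicit false
set_option linter.unusedSectionVars false

namespace Cfsg.Agent.Spor.UnitarySeven

open Matrix Cfsg.Agent.Small Cfsg.Agent.Small.Unitary Cfsg.Agent.Spor.UnitaryTrans

section Geometry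

variable {F : Type} [Field F] [Fintype F] [StarRing F] {n : ℕ}

/-- the functionals given by a family of vectors -/
def Φ {k : ℕ} (v : Fin k → (Fin n → F)) : (Fin n → F) →ₗ[F] (Fin k → F) where
  toFun x i := herm (v i) x
  map_add' x y := funext fun i => herm_add_right _ _ _
  map_smul' c x := funext fun i => by simp [herm_smul_right]

theorem Φ_apply {k : ℕ} (v : Fin k → (Fin n → F)) (x : Fin n → F) (i : Fin k) :
    Φ v x i = herm (v i) x := rfl

theorem eq_zero_of_herm {p : Fin n → F} (h : ∀ x, herm p x = 0) : p = 0 := by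
  by_contra hp
  obtain ⟨w, hw⟩ := Cfsg.Agent.Classical.URoot.exists_herm_one hp
  exact one_ne_zero (hw.symm.trans (h w))

theorem herm_sum_left {ι : Type*} (s : Finset ι) (v : ι → (Fin n → F)) (x : Fin n → F) :
    herm (∑ i ∈ s, v i) x = ∑ i ∈ s, herm (v i) x := by
  classical
  induction s using Finset.induction_on with
  | empty => simp [herm_zero_left]
  | insert a s ha ih => rw [Finset.sum_insert ha, Finset.sum_insert ha, herm_add_left, ih]

theorem herm_sum_right {ι : Type*} (s : Finset ι) (x : Fin n → F) (v : ι → (Fin n → F)) :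
    herm x (∑ i ∈ s, v i) = ∑ i ∈ s, herm x (v i) := by
  classical
  induction s using Finset.induction_on with
  | empty => simp [herm_zero_right]
  | insert a s ha ih => rw [Finset.sum_insert ha, Finset.sum_insert ha, herm_add_right, ih]

theorem indep_of_dual {k : ℕ} (v y : Fin k → (Fin n → F)) (h1 : ∀ i, herm (y i) (v i) ≠ 0)
    (h0 : ∀ j i, j < i → herm (y j) (v i) = 0) : LinearIndependent F v := by
  rw [Fintype.linearIndependent_iff]
  intro c hc i
  induction i using WellFoundedLT.induction with
  | _ i ih =>
    have := congrArg (herm (y i)) hc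
    rw [herm_sum_right, herm_zero_right, Finset.sum_eq_single i] at this
    · rw [herm_smul_right] at this
      exact (mul_eq_zero.1 this).resolve_right (h1 i)
    · intro j _ hj
      rw [herm_smul_right]
      rcases lt_or_gt_of_ne hj with hlt | hgt
      · rw [ih j hlt, zero_mul]
      · rw [h0 i j hgt, mul_zero]
    · exact fun h => absurd (Finset.mem_univ i) h

theorem Φ_surjective {k : ℕ} {v : Fin k → (Fin n → F)} (hv : LinearIndependent F v) :
    Function.Surjective (Φ v) := by
  rw [← LinearMap.range_eq_top]
  by_contra h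
  obtain ⟨f, hf, hle⟩ := Submodule.exists_le_ker_of_lt_top _ (lt_top_iff_ne_top.2 h)
  refine hf (LinearMap.ext fun a => ?_)
  set c := fun i => f (Pi.single i 1) with hc
  have hsum : ∀ a : Fin k → F, f a = ∑ i, a i * c i := fun a => by
    conv_lhs => rw [pi_eq_sum_univ' a]
    rw [map_sum]
    exact Finset.sum_congr rfl fun i _ => by rw [map_smul, smul_eq_mul]
  have hz : ∑ i, star (c i) • v i = 0 := eq_zero_of_herm fun x => by
    rw [herm_sum_left]
    have : f (Φ v x) = 0 := hle ⟨x, rfl⟩
    rw [hsum] at this
    rw [← this]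
    exact Finset.sum_congr rfl fun i _ => by rw [herm_smul_left, star_star, Φ_apply, mul_comm]
  have := Fintype.linearIndependent_iff.1 hv _ hz
  rw [hsum, LinearMap.zero_apply]
  exact Finset.sum_eq_zero fun i _ => by rw [star_eq_zero.1 (this i), mul_zero]

theorem finrank_ker_Φ {k : ℕ} {v : Fin k → (Fin n → F)} (hv : LinearIndependent F v) :
    k + Module.finrank F (LinearMap.ker (Φ v)) = n := by
  have := LinearMap.finrank_range_add_finrank_ker (Φ v)
  rwa [LinearMap.range_eq_top.2 (Φ_surjective hv), finrank_top, Module.finrank_fin_fun,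
    Module.finrank_fin_fun] at this

theorem isotropic_le {k : ℕ} {v : Fin k → (Fin n → F)} (hv : LinearIndependent F v)
    (h : ∀ i j, herm (v i) (v j) = 0) : 2 * k ≤ n := by
  have h1 := finrank_ker_Φ hv
  have h2 : Submodule.span F (Set.range v) ≤ LinearMap.ker (Φ v) :=
    Submodule.span_le.2 (by rintro _ ⟨j, rfl⟩; exact funext fun i => h i j)
  have h3 := Submodule.finrank_mono h2
  rw [finrank_span_eq_card hv, Fintype.card_fin] at h3
  omega

end Geometry

variable {F : Type} [Field F] [Fintype F] [DecidableEq F] [StarRing F] [CharP F 2]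
  (hstar : ∀ x : F, star x = x ^ 2) (hF : Fintype.card F = 4)
include hstar

theorem fixed_cases {t : F} (ht : star t = t) : t = 0 ∨ t = 1 :=
  skew_cases hstar (by rw [ht, CharTwo.neg_eq])

theorem herm_self_cases {n : ℕ} (x : Fin n → F) : herm x x = 0 ∨ herm x x = 1 :=
  fixed_cases hstar (star_herm x x)

include hF

/-- isotropic vectors with three prescribed values -/
theorem exists_iso {k : ℕ} (hk : k ≤ 3) {v : Fin k → (Fin 7 → F)} (hv : LinearIndependent F v)
    (α : Fin k → F) : ∃ x, (∀ i, herm (v i) x = α i) ∧ herm x x = 0 := by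
  obtain ⟨x₀, hx₀⟩ := Φ_surjective hv α
  by_contra hno
  have hall : ∀ w ∈ LinearMap.ker (Φ v), herm (x₀ + w) (x₀ + w) = 1 := fun w hw =>
    (herm_self_cases hstar _).resolve_left fun h0 => hno ⟨x₀ + w, fun i => by
      rw [herm_add_right, ← Φ_apply v w, LinearMap.mem_ker.1 hw, Pi.zero_apply, add_zero, ← Φ_apply v x₀, hx₀],
      h0⟩
  have hW : ∀ w ∈ LinearMap.ker (Φ v), ∀ w' ∈ LinearMap.ker (Φ v), herm w w' + herm w' w = 0 := by
    intro w hw w' hw'
    have h0 := hall 0 (zero_mem _)
    have h1 := hall w hw
    have h2 := hall w' hw'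
    have h3 := hall (w + w') (add_mem hw hw')
    simp only [add_zero, herm_add_left, herm_add_right] at h0 h1 h2 h3
    linear_combination h3 - h1 - h2 + h0
  have hW0 : ∀ w ∈ LinearMap.ker (Φ v), ∀ w' ∈ LinearMap.ker (Φ v), herm w w' = 0 := by
    intro w hw w' hw'
    by_contra hne
    obtain ⟨c, hc⟩ : ∃ c : F, c + star c ≠ 0 := by
      by_contra! hall'
      have : ∀ c : F, c = 0 ∨ c = 1 := fun c =>
        fixed_cases hstar (by have := eq_neg_of_add_eq_zero_right (hall' c); rwa [CharTwo.neg_eq] at this)
      have h4 : Fintype.card F ≤ 2 := by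
        rw [← Finset.card_univ]
        exact le_trans (Finset.card_le_card (fun c _ => by
          rcases this c with rfl | rfl <;> simp : (Finset.univ : Finset F) ⊆ {0, 1})) Finset.card_le_two
      omega
    have := hW w hw ((c / herm w w') • w') (Submodule.smul_mem _ _ hw')
    rw [herm_smul_right, herm_smul_left, div_mul_cancel₀ _ hne, star_div₀, star_herm] at this
    have hne' : herm w' w ≠ 0 := by rw [← star_herm w w']; exact star_ne_zero.2 hne
    rw [div_mul_cancel₀ _ hne'] at this
    exact hc this
  have h1 := finrank_ker_Φ hv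
  let b := Module.finBasis F (LinearMap.ker (Φ v))
  have hb := b.linearIndependent.map' (LinearMap.ker (Φ v)).subtype (Submodule.ker_subtype _)
  have h2 := isotropic_le hb fun i j => hW0 _ (b i).2 _ (b j).2
  omega

omit hF

theorem tv_commute {n : ℕ} {a b : Fin n → F} (ha : herm a a = 0) (hb : herm b b = 0) (h : herm a b = 0) :
    Commute (tv hstar a ha) (tv hstar b hb) := by
  refine Cfsg.Agent.Classical.URoot.eq_of_act fun x => ?_
  have h' : herm b a = 0 := by rw [← star_herm a b, h, star_zero]
  simp only [act_mul, act_tv, herm_add_right, herm_smul_right, h, h']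
  module

include hF

/-- splitting off a transvection from an involution -/
theorem exists_split {n : ℕ} {σ : Cfsg.SU n F 2} (h2 : σ * σ = 1) (hne : σ ≠ 1) :
    ∃ (x u : Fin n → F) (hu : herm u u = 0), herm x u = 1 ∧ act σ u = u ∧
      tv hstar u hu * σ * (tv hstar u hu * σ) = 1 ∧ act (tv hstar u hu * σ) x = x ∧
      (∀ z, act σ z = z → herm z u = 0 ∧ act (tv hstar u hu * σ) z = z) := by
  have hss : ∀ a, act σ (act σ a) = a := fun a => by rw [← act_mul, h2, act_one]
  have hsym : ∀ a b, herm (act σ a) b = herm a (act σ b) := fun a b => by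
    rw [← herm_act hstar σ (act σ a) b, hss]
  have hBs : ∀ a b, star (herm (act σ a + a) b) = herm (act σ b + b) a := fun a b => by
    rw [star_herm, herm_add_right, herm_add_left, hsym]
  obtain ⟨x, hx⟩ : ∃ x, herm (act σ x + x) x ≠ 0 := by
    by_contra! h0
    have hadd : ∀ a b, herm (act σ a + a) b + star (herm (act σ a + a) b) = 0 := fun a b => by
      have h1 := h0 (a + b)
      rw [show act σ (a + b) + (a + b) = (act σ a + a) + (act σ b + b) by rw [act_add]; abel] at h1
      simp only [herm_add_left (act σ a + a), herm_add_right, h0 a, h0 b] at h1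
      rw [hBs]
      linear_combination h1
    refine hne (Cfsg.Agent.Classical.URoot.eq_of_act fun a => ?_)
    rw [act_one]
    have hz : act σ a + a = 0 := eq_zero_of_herm fun b => by
      by_contra hab
      have h1 := fixed_cases hstar (t := herm (act σ a + a) b) (by
        have := eq_neg_of_add_eq_zero_right (hadd a b); rwa [CharTwo.neg_eq] at this)
      have hall : ∀ c : F, c = 0 ∨ c = 1 := fun c => fixed_cases hstar (by
        have := hadd a (c • b)
        rw [herm_smul_right, h1.resolve_left hab, mul_one] at this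
        have := eq_neg_of_add_eq_zero_right this
        rwa [CharTwo.neg_eq] at this)
      have h4 : Fintype.card F ≤ 2 := by
        rw [← Finset.card_univ]
        exact le_trans (Finset.card_le_card (fun c _ => by
          rcases hall c with rfl | rfl <;> simp : (Finset.univ : Finset F) ⊆ {0, 1})) Finset.card_le_two
      omega
    rw [eq_neg_of_add_eq_zero_left hz]
    funext i
    simp [CharTwo.neg_eq]
  set u := act σ x + x with hu_def
  have hx1 : herm u x = 1 := (fixed_cases hstar (by rw [hu_def]; exact hBs x x)).resolve_left hx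
  have hxu : herm x u = 1 := by rw [← star_herm u x, hx1, star_one]
  have hu : herm u u = 0 := by
    rw [hu_def]
    simp only [herm_add_left, herm_add_right, herm_act hstar, hsym x x]
    linear_combination (herm x x + herm x (act σ x)) * CharTwo.two_eq_zero (R := F)
  have hσu : act σ u = u := by rw [hu_def, act_add, hss]; abel
  have hcomm : σ * tv hstar u hu = tv hstar u hu * σ := by
    rw [← mul_inv_eq_iff_eq_mul, tv_conj]
    exact tv_congr hstar hσu _ _
  refine ⟨x, u, hu, hxu, hσu, ?_, ?_, fun z hz => ?_⟩
  · calc tv hstar u hu * σ * (tv hstar u hu * σ) = tv hstar u hu * (σ * tv hstar u hu) * σ := by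
          simp only [mul_assoc]
      _ = (tv hstar u hu * tv hstar u hu) * (σ * σ) := by rw [hcomm]; simp only [mul_assoc]
      _ = 1 := by rw [tv_sq, h2, one_mul]
  · rw [act_mul, act_tv, show act σ x = u + x by
      rw [hu_def, add_assoc, show x + x = 0 from funext fun i => CharTwo.add_self_eq_zero _, add_zero],
      herm_add_right, hu, hx1, zero_add, one_smul]
    funext i
    simp only [Pi.add_apply]
    linear_combination (u i) * CharTwo.two_eq_zero (R := F)
  · have hzu : herm z u = 0 := by
      rw [hu_def, herm_add_right, ← hsym, hz, CharTwo.add_self_eq_zero]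
    refine ⟨hzu, ?_⟩
    rw [act_mul, hz, act_tv, show herm u z = 0 by rw [← star_herm z u, hzu, star_zero], zero_smul, add_zero]

include hF

/-- An involution all of whose conjugates give products of order at most three is a transvection. -/
theorem tv_of_three {σ : Cfsg.SU 7 F 2} (hσ : σ * σ = 1) (hne : σ ≠ 1)
    (h : ∀ g, (σ * (g * σ * g⁻¹)) ^ 2 = 1 ∨ (σ * (g * σ * g⁻¹)) ^ 3 = 1) :
    ∃ (u : Fin 7 → F) (hu : herm u u = 0), u ≠ 0 ∧ σ = tv hstar u hu := by
  obtain ⟨x, u, hu, hxu, hσu, hσ1, hx1, hfix1⟩ := exists_split hstar hF hσ hne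
  have hu0 : u ≠ 0 := fun e => by simp [e, herm_zero_right] at hxu
  have back : ∀ {v : Fin 7 → F} (hv : herm v v = 0) {τ τ' : Cfsg.SU 7 F 2},
      tv hstar v hv * τ = τ' → τ = tv hstar v hv * τ' := fun hv τ τ' e => by
    rw [← e, ← mul_assoc, tv_sq, one_mul]
  by_cases h1 : tv hstar u hu * σ = 1
  · exact ⟨u, hu, hu0, by rw [back hu h1, mul_one]⟩
  exfalso
  obtain ⟨x', w, hw, hxw', hσw, hσ2, hx2, hfix2⟩ := exists_split hstar hF hσ1 h1
  have hxw : herm x w = 0 := (hfix2 x hx1).1
  have huw : herm u w = 0 := (hfix2 u (hfix1 u hσu).2).1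
  set ρ := tv hstar w hw * (tv hstar u hu * σ) with hρdef
  have hσeq : σ = tv hstar u hu * (tv hstar w hw * ρ) := back hu (back hw hρdef.symm)
  obtain ⟨f, hf, huf, hwf, hindep, hρ⟩ : ∃ (f : Fin 7 → F) (hf : herm f f = 0),
      herm u f = 0 ∧ herm w f = 0 ∧ LinearIndependent F ![u, w, f] ∧ (ρ = 1 ∨ ρ = tv hstar f hf) := by
    by_cases h2 : ρ = 1
    · have hi2 : LinearIndependent F ![u, w] := by
        refine indep_of_dual _ ![x, x'] (fun i => ?_) (fun j i hji => ?_)
        · fin_cases i <;> simp [hxu, hxw']
        · fin_cases i <;> fin_cases j <;> first | (exact absurd hji (by decide)) | simp [*]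
      obtain ⟨z, hz, hzs⟩ : ∃ z ∈ LinearMap.ker (Φ ![u, w]), z ∉ Submodule.span F (Set.range ![u, w]) := by
        by_contra! hle
        have h3 := Submodule.finrank_mono (fun z hz => hle z hz :
          LinearMap.ker (Φ ![u, w]) ≤ Submodule.span F (Set.range ![u, w]))
        have := finrank_ker_Φ hi2
        rw [finrank_span_eq_card hi2, Fintype.card_fin] at h3
        omega
      have hi3 : LinearIndependent F (Fin.snoc ![u, w] z : Fin 3 → Fin 7 → F) :=
        linearIndependent_finSnoc.2 ⟨hi2, hzs⟩
      obtain ⟨f, hfv, hff⟩ := exists_iso hstar hF le_rfl hi3 ![0, 0, 1]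
      have huf : herm u f = 0 := hfv 0
      have hwf : herm w f = 0 := hfv 1
      have hzf : herm z f = 1 := hfv 2
      have hzu : herm z u = 0 := by
        rw [← star_herm u z, show herm u z = 0 from congrFun (LinearMap.mem_ker.1 hz) 0, star_zero]
      have hzw : herm z w = 0 := by
        rw [← star_herm w z, show herm w z = 0 from congrFun (LinearMap.mem_ker.1 hz) 1, star_zero]
      refine ⟨f, hff, huf, hwf, ?_, Or.inl h2⟩
      have hperm : LinearIndependent F ![f, u, w] := by
        refine indep_of_dual _ ![z, x, x'] (fun i => ?_) (fun j i hji => ?_)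
        · fin_cases i <;> simp [hxu, hxw', hzf]
        · fin_cases i <;> fin_cases j <;> first | (exact absurd hji (by decide)) | simp [hxw, hzu, hzw]
      have := hperm.comp ![1, 2, 0] (by decide)
      convert this using 1
      funext i
      fin_cases i <;> rfl
    · obtain ⟨x'', f, hf, hxf'', hσf, hσ3, hx3, hfix3⟩ := exists_split hstar hF hσ2 h2
      have hu' : act ρ u = u := (hfix2 u (hfix1 u hσu).2).2
      have hw' : act ρ w = w := (hfix2 w hσw).2
      have hxr : act ρ x = x := (hfix2 x hx1).2
      have huf := (hfix3 u hu').1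
      have hwf := (hfix3 w hw').1
      have hxf := (hfix3 x hxr).1
      have hxf' := (hfix3 x' hx2).1
      refine ⟨f, hf, huf, hwf, ?_, Or.inr ?_⟩
      · refine indep_of_dual _ ![x, x', x''] (fun i => ?_) (fun j i hji => ?_)
        · fin_cases i <;> simp [hxu, hxw', hxf'']
        · fin_cases i <;> fin_cases j <;> first | (exact absurd hji (by decide)) | simp [hxw, hxf, hxf']
      · by_cases h3 : tv hstar f hf * ρ = 1
        · rw [back hf h3, mul_one]
        exfalso
        obtain ⟨x₄, v, hv, hxv, hσv, -, -, hfix4⟩ := exists_split hstar hF hσ3 h3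
        have huv := (hfix4 u (hfix3 u hu').2).1
        have hwv := (hfix4 w (hfix3 w hw').2).1
        have hfv := (hfix4 f (hfix3 f hσf).2).1
        have hxv1 := (hfix4 x (hfix3 x hxr).2).1
        have hxv2 := (hfix4 x' (hfix3 x' hx2).2).1
        have hxv3 := (hfix4 x'' hx3).1
        have hi : LinearIndependent F ![u, w, f, v] := by
          refine indep_of_dual _ ![x, x', x'', x₄] (fun i => ?_) (fun j i hji => ?_)
          · fin_cases i <;> simp [hxu, hxw', hxf'', hxv]
          · fin_cases i <;> fin_cases j <;> first | (exact absurd hji (by decide)) | simp [hxw, hxf, hxf', hxv1, hxv2, hxv3]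
        have hsw : ∀ {a b : Fin 7 → F}, herm a b = 0 → herm b a = 0 := fun {a b} e => by
          rw [← star_herm a b, e, star_zero]
        have := isotropic_le hi fun i j => by
          fin_cases i <;> fin_cases j <;>
            simp [hu, hw, hf, hv, huw, huf, hwf, huv, hwv, hfv, hsw huw, hsw huf, hsw hwf, hsw huv, hsw hwv, hsw hfv]
        omega
  have hsw : ∀ {a b : Fin 7 → F}, herm a b = 0 → herm b a = 0 := fun {a b} e => by
    rw [← star_herm a b, e, star_zero]
  obtain ⟨c, hcv, hc⟩ := exists_iso hstar hF le_rfl hindep ![1, 0, 0]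
  have huc : herm u c = 1 := hcv 0
  have hwc : herm w c = 0 := hcv 1
  have hfc : herm f c = 0 := hcv 2
  have hcu : herm c u = 1 := by rw [← star_herm u c, huc, star_one]
  have hindep' : LinearIndependent F ![w, c, f] := by
    rw [Fintype.linearIndependent_iff] at hindep ⊢
    intro a ha
    rw [Fin.sum_univ_three] at ha
    simp only [Matrix.cons_val_zero, Matrix.cons_val_one, Matrix.cons_val_two, Matrix.head_cons, Matrix.tail_cons] at ha
    have hb : a 1 = 0 := by
      have := congrArg (herm u) ha
      simpa [herm_add_right, herm_smul_right, huw, huf, huc, herm_zero_right] using this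
    have h3 := hindep ![0, a 0, a 2] (by
      rw [Fin.sum_univ_three]
      simpa [hb] using ha)
    intro i
    fin_cases i
    · exact h3 1
    · exact hb
    · exact h3 2
  obtain ⟨m, hmv, hm⟩ := exists_iso hstar hF le_rfl hindep' ![1, 0, 0]
  have hwm : herm w m = 1 := hmv 0
  have hcm : herm c m = 0 := hmv 1
  have hfm : herm f m = 0 := hmv 2
  have hmw : herm m w = 1 := by rw [← star_herm w m, hwm, star_one]
  have hz1 : herm (u + c) (u + c) = 0 := by
    simp [herm_add_left, herm_add_right, hu, hc, huc, hcu, CharTwo.add_self_eq_zero]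
  have hz2 : herm (w + m) (w + m) = 0 := by
    simp [herm_add_left, herm_add_right, hw, hm, hwm, hmw, CharTwo.add_self_eq_zero]
  have hz3 : herm (m + (w + f)) (m + (w + f)) = 0 := by
    simp [herm_add_left, herm_add_right, hw, hm, hf, hwm, hmw, hwf, hsw hwf, hfm, hsw hfm,
      CharTwo.add_self_eq_zero]
  set g := tv hstar _ hz3 * (tv hstar _ hz2 * tv hstar _ hz1) with hg
  have hdbl : ∀ a b : Fin 7 → F, a + (a + b) = b := fun a b => by
    rw [← add_assoc, show a + a = 0 from funext fun i => CharTwo.add_self_eq_zero _, zero_add]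
  have t1u : act (tv hstar _ hz1) u = c := by
    rw [act_tv, herm_add_left, hu, hcu, zero_add, one_smul, hdbl]
  have t2c : act (tv hstar _ hz2) c = c := by
    rw [act_tv, herm_add_left, hwc, hsw hcm]; simp
  have t3c : act (tv hstar _ hz3) c = c := by
    rw [act_tv, herm_add_left, herm_add_left, hwc, hsw hcm, hfc]; simp
  have t1w : act (tv hstar _ hz1) w = w := by
    rw [act_tv, herm_add_left, huw, hsw hwc]; simp
  have t2w : act (tv hstar _ hz2) w = m := by
    rw [act_tv, herm_add_left, hw, hmw, zero_add, one_smul, hdbl]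
  have t3m : act (tv hstar _ hz3) m = w + f := by
    rw [act_tv, herm_add_left, herm_add_left, hm, hwm, hfm, zero_add, add_zero, one_smul, hdbl]
  have t1f : act (tv hstar _ hz1) f = f := by
    rw [act_tv, herm_add_left, huf, hsw hfc]; simp
  have t2f : act (tv hstar _ hz2) f = f := by
    rw [act_tv, herm_add_left, hwf, hsw hfm]; simp
  have t3f : act (tv hstar _ hz3) f = f := by
    rw [act_tv, herm_add_left, herm_add_left, hwf, hsw hfm, hf]; simp
  have hgu : act g u = c := by rw [hg, act_mul, act_mul, t1u, t2c, t3c]
  have hgw : act g w = w + f := by rw [hg, act_mul, act_mul, t1w, t2w, t3m]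
  have hgf : act g f = f := by rw [hg, act_mul, act_mul, t1f, t2f, t3f]
  have he : herm (w + f) (w + f) = 0 := by
    simp [herm_add_left, herm_add_right, hw, hf, hwf, hsw hwf]
  have e1 : g * tv hstar u hu * g⁻¹ = tv hstar c hc := by rw [tv_conj]; exact tv_congr hstar hgu _ _
  have e2 : g * tv hstar w hw * g⁻¹ = tv hstar (w + f) he := by rw [tv_conj]; exact tv_congr hstar hgw _ _
  have e3 : g * ρ * g⁻¹ = ρ := by
    rcases hρ with e | e
    · rw [e]; group
    · rw [e, tv_conj]; exact tv_congr hstar hgf _ _
  have hconj : g * σ * g⁻¹ = tv hstar c hc * (tv hstar (w + f) he * ρ) := by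
    conv_lhs => rw [hσeq]
    conv_rhs => rw [← e1, ← e2, ← e3]
    group
  have hρc : ∀ (a : Fin 7 → F) (ha : herm a a = 0), herm a f = 0 → Commute (tv hstar a ha) ρ :=
    fun a ha e => by
      rcases hρ with e' | e' <;> rw [e']
      · exact Commute.one_right _
      · exact tv_commute hstar ha hf e
  have hρρ : ρ * ρ = 1 := hσ2
  set Tu := tv hstar u hu
  set Tw := tv hstar w hw
  set Tc := tv hstar c hc
  set Te := tv hstar (w + f) he
  have cuw : Commute Tu Tw := tv_commute hstar hu hw huw
  have cwc : Commute Tw Tc := tv_commute hstar hw hc hwc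
  have cue : Commute Tu Te := tv_commute hstar hu he (by rw [herm_add_right, huw, huf, add_zero])
  have cce : Commute Tc Te := tv_commute hstar hc he (by rw [herm_add_right, hsw hwc, hsw hfc, add_zero])
  have cwe : Commute Tw Te := tv_commute hstar hw he (by rw [herm_add_right, hw, hwf, add_zero])
  have crc : Commute Tc ρ := hρc c hc (hsw hfc)
  have cre : Commute Te ρ := hρc (w + f) he (by rw [herm_add_left, hwf, hf, add_zero])
  have hprod : σ * (g * σ * g⁻¹) = (Tu * Tc) * (Tw * Te) := by
    rw [hconj, hσeq]
    calc Tu * (Tw * ρ) * (Tc * (Te * ρ)) = Tu * Tw * (ρ * Tc) * Te * ρ := by simp only [mul_assoc]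
      _ = Tu * Tw * Tc * (ρ * Te) * ρ := by rw [← crc.eq]; simp only [mul_assoc]
      _ = Tu * (Tw * Tc) * Te * (ρ * ρ) := by rw [← cre.eq]; simp only [mul_assoc]
      _ = Tu * Tc * (Tw * Te) := by rw [hρρ, mul_one, cwc.eq]; simp only [mul_assoc]
  have cAB : Commute (Tu * Tc) (Tw * Te) :=
    (cuw.mul_right cue).mul_left (cwc.symm.mul_right cce)
  have hA1 : Tu * Tc ≠ 1 := fun e => by
    have h4 := congrArg (fun q => act q u) e
    simp only [act_mul, act_one] at h4
    have h5 : act Tu (act Tc u) = c := by
      rw [act_tv hstar c hc, hcu, one_smul, act_tv hstar u hu, herm_add_right, hu, huc, zero_add, one_smul]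
      funext i
      simp only [Pi.add_apply]
      linear_combination (u i) * CharTwo.two_eq_zero (R := F)
    rw [h5] at h4
    rw [h4, hu] at huc
    exact zero_ne_one huc
  have hA3 : (Tu * Tc) ^ 3 = 1 := by
    refine (tv_pair hstar hF hu hc).resolve_left fun e => ?_
    have hcomm : Commute Tu Tc := by
      rw [pow_two, mul_eq_one_iff_eq_inv, _root_.mul_inv_rev,
        inv_eq_of_mul_eq_one_right (tv_sq hstar c hc), inv_eq_of_mul_eq_one_right (tv_sq hstar u hu)] at e
      exact e
    have h4 := congrArg (fun q => act q u) hcomm.eq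
    simp only [act_mul, Tu, Tc, act_tv, herm_add_right, hu, hcu, huc, herm_smul_right, zero_smul, add_zero,
      one_smul, zero_add] at h4
    have : u = 0 := by simpa using h4
    exact hu0 this
  have hB2 : (Tw * Te) ^ 2 = 1 := by rw [cwe.mul_pow, pow_two, pow_two, tv_sq, tv_sq, one_mul]
  have hB1 : Tw * Te ≠ 1 := fun e => by
    have h4 := congrArg (fun q => act q m) e
    simp only [act_mul, act_one, Tw, Te, act_tv, herm_add_left, herm_add_right, herm_smul_right, hwm, hfm,
      hw, hwf, add_zero, one_smul] at h4
    have hf0 : f = 0 := by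
      funext i
      have h5 := congrFun h4 i
      simp only [Pi.add_apply] at h5
      show f i = 0
      linear_combination h5 - (w i) * CharTwo.two_eq_zero (R := F)
    exact (hindep.ne_zero 2) (by simpa using hf0)
  rcases h g with h2 | h3 <;> rw [hprod, cAB.mul_pow] at *
  · rw [hB2, mul_one] at h2
    rw [pow_succ, h2, one_mul] at hA3
    exact hA1 hA3
  · rw [hA3, one_mul, pow_succ, hB2, one_mul] at h3
    exact hB1 h3

/-- Two non-orthogonal isotropic vectors reach every transvection. -/
theorem gen_pair {p r s : Fin 7 → F} (hp : herm p p = 0) (hr : herm r r = 0) (hs : herm s s = 0)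
    (hs0 : s ≠ 0) (hpr : herm p r ≠ 0) :
    ∃ (a b : Fin 7 → F) (ha : herm a a = 0) (hb : herm b b = 0), a ≠ 0 ∧ b ≠ 0 ∧
      (herm a p = 0 ∨ herm a r = 0) ∧ (herm b p = 0 ∨ herm b r = 0) ∧
      tv hstar s hs = tv hstar a ha * tv hstar b hb * tv hstar a ha := by
  have hinv : ∀ (v : Fin 7 → F) (hv : herm v v = 0), (tv hstar v hv)⁻¹ = tv hstar v hv :=
    fun v hv => inv_eq_of_mul_eq_one_right (tv_sq hstar v hv)
  by_cases hperp : herm s p = 0 ∨ herm s r = 0
  · exact ⟨s, s, hs, hs, hs0, hs0, hperp, hperp, by rw [tv_sq, one_mul]⟩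
  push Not at hperp
  by_cases hi : LinearIndependent F ![p, r, s]
  · obtain ⟨a, hav, ha⟩ := exists_iso hstar hF le_rfl hi ![0, herm r s, 1]
    have hpa : herm p a = 0 := hav 0
    have hra : herm r a = herm r s := hav 1
    have hsa : herm s a = 1 := hav 2
    have has : herm a s = 1 := by rw [← star_herm s a, hsa, star_one]
    have hb : herm (a + s) (a + s) = 0 := by
      simp [herm_add_left, herm_add_right, ha, hs, has, hsa, CharTwo.add_self_eq_zero]
    refine ⟨a, a + s, ha, hb, fun e => by simp [e, herm_zero_right] at hsa,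
      fun e => ?_, Or.inl ?_, Or.inr ?_, ?_⟩
    · have := congrArg (herm s) e
      simp [herm_add_right, hsa, hs, herm_zero_right] at this
    · rw [← star_herm p a, hpa, star_zero]
    · rw [← star_herm r (a + s), herm_add_right, hra, CharTwo.add_self_eq_zero, star_zero]
    · have := tv_conj hstar (tv hstar a ha) (a + s) hb
      rw [hinv] at this
      rw [this]
      refine tv_congr hstar ?_ _ _
      rw [act_tv, herm_add_right, ha, has, zero_add, one_smul]
      funext i
      simp only [Pi.add_apply]
      linear_combination -(a i) * CharTwo.two_eq_zero (R := F)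
  · have hi2 : LinearIndependent F ![p, r] := by
      refine indep_of_dual _ ![r, p] (fun i => ?_) (fun j i hji => ?_)
      · fin_cases i
        · simpa [← star_herm p r] using hpr
        · simpa using hpr
      · fin_cases i <;> fin_cases j <;> first | (exact absurd hji (by decide)) | simp [*]
    have hspan : s ∈ Submodule.span F (Set.range ![p, r]) := by
      by_contra hns
      refine hi ?_
      have h3 : LinearIndependent F (Fin.snoc ![p, r] s : Fin 3 → Fin 7 → F) :=
        linearIndependent_finSnoc.2 ⟨hi2, hns⟩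
      convert h3 using 1
      funext i
      fin_cases i <;> rfl
    obtain ⟨l, hl⟩ := Submodule.mem_span_range_iff_exists_fun F |>.1 hspan
    rw [Fin.sum_univ_two] at hl
    simp only [Matrix.cons_val_zero, Matrix.cons_val_one, Matrix.head_cons] at hl
    set k := herm p r with hk
    have hk1 : star k * k = 1 := star_mul_self_eq_one hstar hF hpr
    have hsp : herm s p = star (l 1) * star k := by
      rw [← hl, herm_add_left, herm_smul_left, herm_smul_left, hp, ← star_herm p r, ← hk, mul_zero, zero_add]
    have hsr : herm s r = star (l 0) * k := by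
      rw [← hl, herm_add_left, herm_smul_left, herm_smul_left, hr, mul_zero, add_zero]
    have hl0 : l 0 ≠ 0 := fun e => hperp.2 (by rw [hsr, e, star_zero, zero_mul])
    have hl1 : l 1 ≠ 0 := fun e => hperp.1 (by rw [hsp, e, star_zero, zero_mul])
    have htr : l 0 * star (l 1) * star k = 1 := by
      have h0 : star (l 0) * l 1 * k + star (l 1) * l 0 * star k = 0 := by
        have := hs
        rw [← hl] at this
        simp only [herm_add_left, herm_add_right, herm_smul_left, herm_smul_right, hp, hr,
          ← star_herm p r, ← hk, mul_zero, add_zero, zero_add] at this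
        linear_combination this
      refine (fixed_cases hstar ?_).resolve_left (by simp [hl0, hl1, hpr])
      rw [star_mul', star_mul', star_star, star_star]
      linear_combination h0 - (star (l 1) * l 0 * star k) * CharTwo.two_eq_zero (R := F)
    have hl10 : l 0 = l 1 * k := by
      have h11 : star (l 1) * l 1 = 1 := star_mul_self_eq_one hstar hF hl1
      linear_combination (l 1 * k) * htr - (l 0 * (star (l 1) * l 1)) * hk1 - (l 0) * h11
    refine ⟨p, r, hp, hr, fun e => hpr (by simp [hk, e, herm_zero_left]),
      fun e => hpr (by simp [hk, e, herm_zero_right]), Or.inl hp, Or.inr hr, ?_⟩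
    have h1 := tv_conj hstar (tv hstar p hp) r hr
    rw [hinv] at h1
    rw [h1]
    have hvec : s = l 1 • act (tv hstar p hp) r := by
      rw [act_tv, ← hl, ← hk, smul_add, smul_smul, add_comm]
      congr 2
    rw [tv_congr hstar hvec hs (by rw [← hvec]; exact hs), tv_smul hstar hF hl1]

/-- Five commuting transvections with product one. -/
theorem five : ∃ v : Fin 5 → (Fin 7 → F), (∀ i, v i ≠ 0) ∧ ∃ hv : ∀ i, herm (v i) (v i) = 0,
    (∀ i j, herm (v i) (v j) = 0) ∧
    tv hstar (v 0) (hv 0) * tv hstar (v 1) (hv 1) * tv hstar (v 2) (hv 2) * tv hstar (v 3) (hv 3) *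
      tv hstar (v 4) (hv 4) = 1 := by
  have hF' : Fintype.card F = 2 ^ 2 := by rw [hF]; norm_num
  obtain ⟨e, d, P⟩ := exists_pair (n := 7) hstar hF' (i := (0 : Fin 7)) (j := 1) (by decide)
  have hde : herm d e = 1 := P.fe
  have hi1 : LinearIndependent F ![e] := indep_of_dual _ ![d] (fun i => by fin_cases i; simp [hde])
    (fun j i hji => by fin_cases i; fin_cases j; exact absurd hji (by decide))
  obtain ⟨z, hz, hzs⟩ : ∃ z ∈ LinearMap.ker (Φ ![e]), z ∉ Submodule.span F (Set.range ![e]) := by
    by_contra! hle
    have h3 := Submodule.finrank_mono (fun z hz => hle z hz :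
      LinearMap.ker (Φ ![e]) ≤ Submodule.span F (Set.range ![e]))
    have := finrank_ker_Φ hi1
    rw [finrank_span_eq_card hi1, Fintype.card_fin] at h3
    omega
  obtain ⟨f, hfv, hf⟩ := exists_iso hstar hF (by omega)
    (linearIndependent_finSnoc.2 ⟨hi1, hzs⟩ : LinearIndependent F (Fin.snoc ![e] z : Fin 2 → Fin 7 → F)) ![0, 1]
  have hef : herm e f = 0 := hfv 0
  have hzf : herm z f = 1 := hfv 1
  have hze : herm z e = 0 := by
    rw [← star_herm e z, show herm e z = 0 from congrFun (LinearMap.mem_ker.1 hz) 0, star_zero]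
  have hfe : herm f e = 0 := by rw [← star_herm e f, hef, star_zero]
  obtain ⟨om, hom0, hom1⟩ : ∃ om : F, om ≠ 0 ∧ om ≠ 1 := by
    by_contra! hall
    have h4 : Fintype.card F ≤ 2 := by
      rw [← Finset.card_univ]
      exact le_trans (Finset.card_le_card (fun c _ => by
        rcases eq_or_ne c 0 with rfl | hc
        · simp
        · simp [hall c hc] : (Finset.univ : Finset F) ⊆ {0, 1})) Finset.card_le_two
    omega
  have hs3 : star om * om = 1 := star_mul_self_eq_one hstar hF hom0
  rw [hstar, ← pow_succ] at hs3
  have hq : om ^ 2 + om + 1 = 0 := by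
    have : (om - 1) * (om ^ 2 + om + 1) = 0 := by linear_combination hs3
    exact (mul_eq_zero.1 this).resolve_left (sub_ne_zero.2 hom1)
  have hne : ∀ (a b : F), b ≠ 0 → a • e + b • f ≠ 0 := fun a b hb h0 => by
    have := congrArg (herm z) h0
    simp [herm_add_right, herm_smul_right, hze, hzf, herm_zero_right] at this
    exact hb this
  have hperp : ∀ a b a' b' : F, herm (a • e + b • f) (a' • e + b' • f) = 0 := fun a b a' b' => by
    simp [herm_add_left, herm_add_right, herm_smul_left, herm_smul_right, P.ee, hf, hef, hfe]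
  let co : Fin 5 → F × F := ![(1, 0), (0, 1), (1, 1), (1, om), (1, om ^ 2)]
  refine ⟨fun i => (co i).1 • e + (co i).2 • f, fun i => ?_, fun i => hperp _ _ _ _,
    fun i j => hperp _ _ _ _, ?_⟩
  · fin_cases i
    · intro h0
      have := congrArg (herm d) h0
      simp [co, hde, herm_zero_right] at this
    all_goals exact hne _ _ (by simp [co, hom0])
  · refine Cfsg.Agent.Classical.URoot.eq_of_act fun x => ?_
    have h2 := CharTwo.two_eq_zero (R := F)
    funext i
    simp [act_mul, act_tv, act_one, co, herm_add_left, herm_add_right, herm_smul_left, herm_smul_right, P.ee, hf, hef, hfe,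
      hstar om]
    linear_combination
      (herm e x * e i * 2 + herm f x * f i * 2) * h2 +
      (herm f x * e i * (1 + om * (om - 1)) + herm e x * f i +
        herm f x * f i * (om - 1) * (om ^ 3 + 2)) * hq

end Cfsg.Agent.Spor.UnitarySeven
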