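import Cfsg.Agent.Lib.Spor.WedgeFiveDefs

/-!
The checks on the exterior square of a binary space of dimension five hold.
-/

set_option autoImplicit false
set_option maxRecDepth 100000
set_option maxHeartbeats 4000000

namespace Cfsg.Agent.Spor.Wedge5.Chk

theorem star_ok : (List.range 32).all starOK = true := by decide +kernel

theorem dm_ok : dmOK = true := by decide +kernel

theorem nb_ok : nbOK = true := by decide +kernel

theorem line_ok : (List.range 32).all lineOK = true := by decide +kernel

theorem clique_ok : Dat.nbL.all cliqueOK = true := by decide +kernel

end Cfsg.Agent.Spor.Wedge5.Chk
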